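import Cfsg.Agent.Lib.SUGen.Transv
import Cfsg.Agent.Lib.Forms.Witt

/-!
Special unitary transformations moving triangles, and the plane of a triangle.
-/

set_option autoImplicit false

namespace Cfsg.Agent.SUGen

open Cfsg.Agent.ClassicalSimple

variable {F V : Type*} [Field F] [AddCommGroup V] [Module F V]
variable {σ : F →+* F} {h : V →ₛₗ[σ] V →ₗ[F] F}
variable (hh : IsUnitaryForm σ h)
include hh

theorem isHermitianPolar : Forms.IsHermitianPolar σ 1 h :=
  ⟨fun x y => by rw [hh.swap, one_mul], fun x => by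
    obtain ⟨d, hd⟩ := hh.exists_trace_one
    exact ⟨d * h x x, by
      rw [one_mul, map_mul, hh.σ_self]; linear_combination -(h x x) * hd⟩,
    hh.invol, by rw [map_one, one_mul], hh.sep⟩

/-- A triangle of isotropic vectors with non-singular Gram matrix. -/
theorem triangle_coeff_zero {x y z : V} {μ ν : F} (hx : h x x = 0) (hy : h y y = 0)
    (hz : h z z = 0) (hxy : h x y = μ) (hxz : h x z = σ μ) (hyz : h y z = ν) (hμ : μ ≠ 0)
    (hdet : μ * μ * ν + σ (μ * μ * ν) ≠ 0) {s1 s2 s3 : F}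
    (e1 : h x (s1 • x + s2 • y + s3 • z) = 0) (e2 : h y (s1 • x + s2 • y + s3 • z) = 0)
    (e3 : h z (s1 • x + s2 • y + s3 • z) = 0) : s1 = 0 ∧ s2 = 0 ∧ s3 = 0 := by
  have hyx : h y x = σ μ := by rw [hh.swap, hxy]
  have hzx : h z x = μ := by rw [hh.swap, hxz, hh.invol]
  have hzy : h z y = σ ν := by rw [hh.swap, hyz]
  simp only [map_add, map_smul, smul_eq_mul, hx, hy, hz, hxy, hxz, hyz, hyx, hzx, hzy, mul_zero,
    zero_add, add_zero] at e1 e2 e3
  have hσμ : σ μ ≠ 0 := (map_ne_zero σ).2 hμ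
  have h3 : s3 * (μ * μ * ν + σ (μ * μ * ν)) = 0 := by
    rw [map_mul, map_mul]
    linear_combination (μ * μ) * e2 + (σ μ * σ ν) * e1 - (μ * σ μ) * e3
  have hs3 : s3 = 0 := (mul_eq_zero.1 h3).resolve_right hdet
  subst hs3
  simp only [zero_mul, add_zero] at e1 e2
  exact ⟨(mul_eq_zero.1 e2).resolve_right hσμ, (mul_eq_zero.1 e1).resolve_right hμ, rfl⟩

theorem triangle_linearIndependent {x y z : V} {μ ν : F} (hx : h x x = 0) (hy : h y y = 0)
    (hz : h z z = 0) (hxy : h x y = μ) (hxz : h x z = σ μ) (hyz : h y z = ν) (hμ : μ ≠ 0)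
    (hdet : μ * μ * ν + σ (μ * μ * ν) ≠ 0) : LinearIndependent F ![x, y, z] := by
  rw [Fintype.linearIndependent_iff]
  intro g hg
  simp only [Fin.sum_univ_three, Matrix.cons_val_zero, Matrix.cons_val_one,
    Matrix.cons_val_two, Matrix.head_cons, Matrix.tail_cons] at hg
  obtain ⟨h1, h2, h3⟩ := triangle_coeff_zero hh hx hy hz hxy hxz hyz hμ hdet
    (s1 := g 0) (s2 := g 1) (s3 := g 2) (by rw [hg]; simp) (by rw [hg]; simp) (by rw [hg]; simp)
  intro i
  fin_cases i <;> assumption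

/-- The component of the third vertex orthogonal to the first two is anisotropic. -/
theorem triangle_split {x y z : V} {μ ν : F} (hx : h x x = 0) (hy : h y y = 0) (hz : h z z = 0)
    (hxy : h x y = μ) (hxz : h x z = σ μ) (hyz : h y z = ν) (hμ : μ ≠ 0)
    (hdet : μ * μ * ν + σ (μ * μ * ν) ≠ 0) :
    ∃ p g : V, p ∈ Submodule.span F {x, y} ∧ p + g = z ∧ h x g = 0 ∧ h y g = 0 ∧ h g g ≠ 0 := by
  have hσμ : σ μ ≠ 0 := (map_ne_zero σ).2 hμ
  have hyx : h y x = σ μ := by rw [hh.swap, hxy]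
  have hzx : h z x = μ := by rw [hh.swap, hxz, hh.invol]
  have hzy : h z y = σ ν := by rw [hh.swap, hyz]
  set α := ν / σ μ
  set β := σ μ / μ
  refine ⟨α • x + β • y, z - (α • x + β • y),
    Submodule.add_mem _ (Submodule.smul_mem _ _ (Submodule.subset_span (by simp)))
      (Submodule.smul_mem _ _ (Submodule.subset_span (by simp))),
    add_sub_cancel _ _, ?_, ?_, fun e => hdet ?_⟩
  · simp [α, β, hx, hxy, hxz, hμ]
  · simp [α, β, hy, hyx, hyz, hσμ]
  · simp only [map_sub, map_add, map_smulₛₗ, LinearMap.sub_apply, LinearMap.add_apply,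
      LinearMap.smul_apply, smul_eq_mul, RingHom.id_apply, hx, hy, hz, hxy, hyx, hxz, hzx, hyz,
      hzy, α, β, map_div₀, hh.invol] at e
    field_simp at e
    rw [map_mul, map_mul]
    linear_combination -e

variable [FiniteDimensional F V]

/-- The determinant of an isometry has norm one. -/
theorem det_norm_one (g : UH h) :
    σ (LinearMap.det ((g : V ≃ₗ[F] V) : V →ₗ[F] V)) *
      LinearMap.det ((g : V ≃ₗ[F] V) : V →ₗ[F] V) = 1 := by
  have hg : g ∈ Subgroup.closure (uDilSet hh) := by rw [uDil_generate hh]; trivial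
  induction hg using Subgroup.closure_induction with
  | mem x hx =>
    obtain ⟨b, c, hc, rfl⟩ := hx
    rw [uDil_det, map_add, map_one, map_mul, hh.σ_self]
    linear_combination (h b b) * hc
  | one => simp
  | mul a b _ _ iha ihb =>
    rw [Subgroup.coe_mul, LinearEquiv.coe_toLinearMap_mul, map_mul, map_mul]
    linear_combination (σ (LinearMap.det ((b : V ≃ₗ[F] V) : V →ₗ[F] V)) *
      LinearMap.det ((b : V ≃ₗ[F] V) : V →ₗ[F] V)) * iha + ihb
  | inv a _ iha =>
    have e : LinearMap.det (((a⁻¹ : UH h) : V ≃ₗ[F] V) : V →ₗ[F] V) *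
        LinearMap.det ((a : V ≃ₗ[F] V) : V →ₗ[F] V) = 1 := by
      rw [← map_mul, ← LinearEquiv.coe_toLinearMap_mul, ← Subgroup.coe_mul, inv_mul_cancel]
      simp
    have e2 := congrArg σ e
    rw [map_mul, map_one] at e2
    set D := LinearMap.det (((a⁻¹ : UH h) : V ≃ₗ[F] V) : V →ₗ[F] V)
    linear_combination (σ (LinearMap.det ((a : V ≃ₗ[F] V) : V →ₗ[F] V)) * σ D) * e + e2 -
      (σ D * D) * iha

/-- `SU` moves a triangle to a triangle with the same Gram matrix, in dimension at least five. -/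
theorem exists_SUH_triangle (h5 : 5 ≤ Module.finrank F V) {x y z x' y' z' : V} {μ ν : F}
    (hx : h x x = 0) (hy : h y y = 0) (hz : h z z = 0) (hxy : h x y = μ) (hxz : h x z = σ μ)
    (hyz : h y z = ν) (hx' : h x' x' = 0) (hy' : h y' y' = 0) (hz' : h z' z' = 0)
    (hxy' : h x' y' = μ) (hxz' : h x' z' = σ μ) (hyz' : h y' z' = ν) (hμ : μ ≠ 0)
    (hdet : μ * μ * ν + σ (μ * μ * ν) ≠ 0) :
    ∃ g ∈ SUH h, g • x = x' ∧ g • y = y' ∧ g • z = z' := by
  have hi := triangle_linearIndependent hh hx hy hz hxy hxz hyz hμ hdet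
  have hi' := triangle_linearIndependent hh hx' hy' hz' hxy' hxz' hyz' hμ hdet
  obtain ⟨g0, hg0, hg⟩ := Forms.witt_hermitian_tuple (isHermitianPolar hh) hi hi' (by
    intro i j
    fin_cases i <;> fin_cases j <;>
      simp [hx, hy, hz, hxy, hxz, hyz, hx', hy', hz', hxy', hxz', hyz', hh.swap x y, hh.swap x z,
        hh.swap y z, hh.swap x' y', hh.swap x' z', hh.swap y' z'])
  let g1 : UH h := ⟨g0, hg0⟩
  have e1 : g1 • x = x' := hg 0
  have e2 : g1 • y = y' := hg 1
  have e3 : g1 • z = z' := hg 2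
  -- an anisotropic vector orthogonal to the image
  obtain ⟨b₀, hb₀, hb₀0⟩ := exists_forall_eq_zero_notMem ![h x', h y', h z'] (⊥ : Submodule F V)
    (by rw [finrank_bot, Fintype.card_fin]; omega)
  rw [Submodule.mem_bot] at hb₀0
  obtain ⟨b, hb, hbb⟩ := exists_aniso_perp hh ![x', y', z'] hi' (y₀ := b₀)
    (by intro i; fin_cases i; exacts [hb₀ 0, hb₀ 1, hb₀ 2]) (by
      intro hmem
      rw [Submodule.mem_span_range_iff_exists_fun] at hmem
      obtain ⟨c, hc⟩ := hmem
      simp only [Fin.sum_univ_three, Matrix.cons_val_zero, Matrix.cons_val_one,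
        Matrix.cons_val_two, Matrix.head_cons, Matrix.tail_cons] at hc
      obtain ⟨c1, c2, c3⟩ := triangle_coeff_zero hh hx' hy' hz' hxy' hxz' hyz' hμ hdet
        (s1 := c 0) (s2 := c 1) (s3 := c 2) (by rw [hc]; exact hb₀ 0) (by rw [hc]; exact hb₀ 1)
        (by rw [hc]; exact hb₀ 2)
      exact hb₀0 (by rw [← hc, c1, c2, c3]; simp))
  set D := LinearMap.det ((g1 : V ≃ₗ[F] V) : V →ₗ[F] V)
  have hD : σ D * D = 1 := det_norm_one hh g1
  have hD0 : D ≠ 0 := right_ne_zero_of_mul (by rw [hD]; exact one_ne_zero)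
  set c := (D⁻¹ - 1) / h b b with hcdef
  have hc : c + σ c + c * σ c * h b b = 0 := by
    rw [hcdef, map_div₀, map_sub, map_inv₀, map_one, hh.σ_self]
    have hσD : σ D = D⁻¹ := eq_inv_of_mul_eq_one_left hD
    rw [hσD, inv_inv]
    field_simp
    ring
  have fixb : ∀ w : V, h b w = 0 → uDil hh b c hc • w = w := fun w hw => by
    rw [uDil_smul, hw, mul_zero, zero_smul, add_zero]
  refine ⟨uDil hh b c hc * g1, ?_, ?_, ?_, ?_⟩
  · rw [mem_SUH, Subgroup.coe_mul, LinearEquiv.coe_toLinearMap_mul, map_mul, uDil_det, hcdef,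
      div_mul_cancel₀ _ hbb, add_sub_cancel, inv_mul_cancel₀ hD0]
  · rw [mul_smul, e1]; exact fixb _ (hh.comm_zero (hb 0))
  · rw [mul_smul, e2]; exact fixb _ (hh.comm_zero (hb 1))
  · rw [mul_smul, e3]; exact fixb _ (hh.comm_zero (hb 2))

end Cfsg.Agent.SUGen
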