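import Cfsg.Agent.Lib.SUGen.Unip
import Cfsg.Agent.Lib.SUGen.Triple

/-!
Three conjugates of the regular unipotent generate `SU`: dimension at least five, `q ≥ 3`.
-/

set_option autoImplicit false

namespace Cfsg.Agent.SUGen

open Matrix Cfsg.Agent.ClassicalSimple
open Cfsg.Agent.SpGen (bidiag bidiagDual lastIdx prevIdx)

variable {k : ℕ} {F : Type*} [Field F] {σ : F →+* F}

theorem last_ne_zero : lastIdx k ≠ 0 := fun e => by simpa [lastIdx] using congrArg Fin.val e

theorem last_ne_prev : lastIdx k ≠ prevIdx k := fun e => by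
  simpa [lastIdx, prevIdx] using congrArg Fin.val e

theorem bidiag_last :
    bidiag k F *ᵥ Pi.single (lastIdx k) (1 : F) =
      Pi.single (prevIdx k) 1 + Pi.single (lastIdx k) 1 :=
  SpGen.bidiag_single_succ _ _ (by simp [lastIdx, prevIdx])

theorem comp_sign : σ ∘ (fun i : Fin (k + 2) => (-1 : F) ^ (k + 1 - i.1)) =
    fun i : Fin (k + 2) => (-1 : F) ^ (k + 1 - i.1) := by
  funext i; simp

theorem bidiag_sign :
    bidiag k F *ᵥ (fun i : Fin (k + 2) => (-1 : F) ^ (k + 1 - i.1)) = Pi.single (lastIdx k) 1 := by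
  ext i
  rw [SpGen.bidiag_mulVec]
  by_cases h : i = lastIdx k
  · subst h
    rw [SpGen.ext0_ge _ (by simp [lastIdx]), Pi.single_eq_same, add_zero]
    simp [lastIdx]
  · have hi : i.1 < k + 1 := by
      have := i.2
      have : i.1 ≠ k + 1 := fun e => h (Fin.ext e)
      omega
    rw [Pi.single_eq_of_ne h, SpGen.ext0, dif_pos (by omega),
      show k + 1 - i.1 = (k + 1 - (i.1 + 1)) + 1 by omega, pow_succ]
    ring

theorem dual_two_term (γ d : F) :
    bidiagDual k F *ᵥ (γ • Pi.single 0 1 + d • Pi.single (lastIdx k) 1) =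
      fun i : Fin (k + 2) => γ * (-1) ^ i.1 + d * (Pi.single (lastIdx k) 1 : Fin (k + 2) → F) i := by
  refine SpGen.dual_mulVec_eq (funext fun i => ?_)
  rw [SpGen.bidiag_transpose_mulVec]
  have := i.2
  by_cases h : i.1 = 0
  · have h0 : i = 0 := Fin.ext h
    subst h0
    simp [Ne.symm (last_ne_zero (k := k))]
  · rw [if_neg h, SpGen.ext0, dif_pos (show i.1 - 1 < k + 2 by omega)]
    have hne : (⟨i.1 - 1, by omega⟩ : Fin (k + 2)) ≠ lastIdx k := fun e => by
      have := congrArg Fin.val e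
      simp [lastIdx] at this
      omega
    have h0 : i ≠ 0 := fun e => h (by rw [e]; rfl)
    simp only [Pi.add_apply, Pi.smul_apply, smul_eq_mul, Pi.single_eq_of_ne hne,
      Pi.single_eq_of_ne h0]
    obtain ⟨l, hl⟩ : ∃ l, i.1 = l + 1 := ⟨i.1 - 1, by omega⟩
    rw [hl, Nat.add_sub_cancel, pow_succ]
    ring

section Main

variable (hh : IsUnitaryForm σ (coForm k σ))
include hh

theorem eT_isotropic :
    coForm k σ ((Pi.single (lastIdx k) 1, 0, 0) : Co k F) (Pi.single (lastIdx k) 1, 0, 0) = 0 := by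
  simp [coForm_apply]

theorem transv_last_mem {κ : F}
    (hc : κ + σ κ + κ * σ κ *
      coForm k σ ((Pi.single (lastIdx k) 1, 0, 0) : Co k F) (Pi.single (lastIdx k) 1, 0, 0) = 0) :
    uDil hh ((Pi.single (lastIdx k) 1, 0, 0) : Co k F) κ hc ∈ flagGroup k σ ∧
      phi (uDil hh ((Pi.single (lastIdx k) 1, 0, 0) : Co k F) κ hc) = 0 := by
  have happ : ∀ (a : Fin (k + 2) → F) (t : F) (b : Fin (k + 2) → F),
      uDil hh ((Pi.single (lastIdx k) 1, 0, 0) : Co k F) κ hc • ((a, t, b) : Co k F) =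
        (a + (κ * b (lastIdx k)) • Pi.single (lastIdx k) 1, t, b) := by
    intro a t b
    rw [uDil_smul, coForm_apply]
    simp [comp_single]
  refine ⟨fun j x hx => ?_, Prod.ext (funext fun i => ?_) ?_⟩
  · obtain ⟨a, t, b⟩ := x
    obtain ⟨h1, h2, h3⟩ := hx
    simp only at h1 h2 h3
    rw [happ]
    refine ⟨fun l hl => ?_, fun _ => sub_self t, fun l _ => sub_self (b l)⟩
    have := l.2
    simp [h3 (lastIdx k) (by simp [lastIdx]; omega)]
  · simp only [phi, happ, Pi.zero_apply, mul_zero, zero_smul, add_zero]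
    exact Pi.single_eq_of_ne (lo_ne_hi i) _
  · simp [phi, happ]

/-- A vector `y` completing the triangle. -/
theorem exists_y {d l : F} (hd : d + σ d = -1) (hg : l * σ d - d ≠ 0) (T : F) :
    ∃ y : Co k F, coForm k σ y y = 0 ∧
      coForm k σ ((Pi.single (lastIdx k) 1, 0, 0) : Co k F) y = d ∧
      coForm k σ ((reg hh hd)⁻¹ • ((Pi.single (lastIdx k) 1, 0, 0) : Co k F)) y = l * σ d ∧
      coForm k σ y (reg hh hd • y) = T ∧
      coForm k σ ((Pi.single 0 1, 0, 0) : Co k F) y ≠ 0 := by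
  set L := lastIdx k with hL
  set P := prevIdx k with hP
  have hL0 : L ≠ 0 := last_ne_zero
  set r0 : F := (-1) ^ (k + 1) with hr0
  have hr0sq : r0 * r0 = 1 := by rw [hr0, ← mul_pow]; simp
  set γ := r0 * (l * σ d - d) with hγ
  have hγ0 : γ ≠ 0 := mul_ne_zero (pow_ne_zero _ (by simp)) hg
  have hσγ0 : σ γ ≠ 0 := (map_ne_zero σ).2 hγ0
  clear_value γ r0
  set b : Fin (k + 2) → F := γ • Pi.single 0 1 + d • Pi.single L 1 with hb
  have hb0 : b 0 = γ := by simp [hb, Ne.symm hL0]
  have hbL : b L = d := by simp [hb, hL0]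
  have hσb : σ ∘ b = σ γ • Pi.single 0 1 + σ d • Pi.single L 1 := by
    funext i
    simp only [hb, Function.comp_apply, Pi.add_apply, Pi.smul_apply, smul_eq_mul, Pi.single_apply]
    split_ifs <;> simp
  have hb' : bidiagDual k F *ᵥ b = fun i : Fin (k + 2) =>
      γ * (-1) ^ i.1 + d * (Pi.single L 1 : Fin (k + 2) → F) i := dual_two_term γ d
  obtain ⟨dt, hdt⟩ := hh.exists_trace_one
  -- `e` records whether the two relevant coordinates coincide
  obtain ⟨e, he, hed⟩ : ∃ e : F, (Pi.single P 1 : Fin (k + 2) → F) 0 = e ∧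
      (e = 1 ∧ r0 = -1 ∨ e = 0) := by
    by_cases hk : k = 0
    · refine ⟨1, ?_, Or.inl ⟨rfl, by rw [hr0, hk]; simp⟩⟩
      rw [show P = 0 from Fin.ext (by simp [hP, prevIdx, hk]), Pi.single_eq_same]
    · refine ⟨0, Pi.single_eq_of_ne (fun e' => hk ?_) _, Or.inr rfl⟩
      simpa [hP, prevIdx] using (congrArg Fin.val e').symm
  have hσe : σ e = e := by rcases hed with ⟨rfl, -⟩ | rfl <;> simp
  set π := σ γ * e + σ d with hπ
  set R := T - d * d * π with hR
  -- the free coordinates
  obtain ⟨t, β1, hmain⟩ : ∃ t β1 : F,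
      σ β1 * (l * σ d - d) + β1 * (σ γ * e) - t * π + σ t * d = R := by
    rcases hed with ⟨rfl, hr⟩ | rfl
    · set t := -(dt * (R + σ R)) / σ γ
      set Z := R - (-t * π + σ t * d) with hZ
      have hg' : l * σ d - d = -γ := by rw [hγ, hr]; ring
      have htγ : t * σ γ + σ (t * σ γ) = -(R + σ R) := by
        rw [div_mul_cancel₀ _ hσγ0, map_neg, map_mul, map_add, hh.invol]
        linear_combination (-(R + σ R)) * hdt
      rw [map_mul, hh.invol] at htγ
      have hZs : Z + σ Z = 0 := by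
        rw [hZ, hπ, map_sub, map_add, map_mul, map_mul, map_neg, map_add, map_mul, map_one,
          hh.invol, hh.invol, hh.invol]
        linear_combination htγ
      refine ⟨t, dt * Z / σ γ, ?_⟩
      rw [hg', map_div₀, map_mul, hh.invol]
      field_simp
      clear_value Z t
      linear_combination Z * hdt + (-σ dt) * hZs + hZ
    · refine ⟨0, σ (R / (l * σ d - d)), ?_⟩
      rw [hh.invol]
      simp [div_mul_cancel₀ _ hg]
  set β0 := -(dt * (σ d * β1 + σ (σ d * β1) + σ t * t)) / σ γ with hβ0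
  set a : Fin (k + 2) → F := β0 • Pi.single 0 1 + β1 • Pi.single L 1 with ha
  have hσa : σ ∘ a = σ β0 • Pi.single 0 1 + σ β1 • Pi.single L 1 := by
    funext i
    simp only [ha, Function.comp_apply, Pi.add_apply, Pi.smul_apply, smul_eq_mul, Pi.single_apply]
    split_ifs <;> simp
  have hiso : σ γ * β0 + σ (σ γ * β0) + σ d * β1 + σ (σ d * β1) + σ t * t = 0 := by
    have e1 : σ γ * β0 = -(dt * (σ d * β1 + σ (σ d * β1) + σ t * t)) := by
      rw [hβ0, mul_div_cancel₀ _ hσγ0]
    rw [e1]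
    simp only [map_neg, map_mul, map_add, hh.invol]
    linear_combination (-(σ d * β1 + d * σ β1 + σ t * t)) * hdt
  refine ⟨(a, t, b), ?_, ?_, ?_, ?_, ?_⟩
  · rw [coForm_apply, hσa, hσb, add_dotProduct, add_dotProduct]
    simp only [smul_dotProduct, single_one_dotProduct, smul_eq_mul, hb0, hbL]
    simp [ha, hL0, Ne.symm hL0]
    simp only [map_mul, hh.invol] at hiso
    linear_combination hiso
  · rw [coForm_apply]
    simp [comp_single, hbL]
  · have hr : (reg hh hd)⁻¹ • ((Pi.single L 1, 0, 0) : Co k F) =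
        (fun i : Fin (k + 2) => (-1 : F) ^ (k + 1 - i.1), 0, 0) := by
      rw [inv_smul_eq_iff, reg_smul]
      simp [bidiag_sign, hL]
    rw [hr, coForm_apply, comp_sign, hb, dotProduct_add, dotProduct_smul, dotProduct_smul,
      dotProduct_single_one, dotProduct_single_one]
    simp [hL, lastIdx, ← hr0, hγ]
    linear_combination (l * σ d - d) * hr0sq
  · have hA : bidiag k F *ᵥ (a + (d * d - t) • Pi.single L 1) = β0 • Pi.single 0 1 +
        (β1 + (d * d - t)) • (Pi.single P 1 + Pi.single L 1) := by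
      rw [ha, mulVec_add, mulVec_add, mulVec_smul, mulVec_smul, mulVec_smul,
        SpGen.bidiag_single_zero, hL, bidiag_last]
      module
    rw [reg_smul, ← hL, hbL, hA, coForm_apply, hb', hσa, hσb]
    simp only [add_dotProduct, smul_dotProduct, single_one_dotProduct, smul_eq_mul, Pi.add_apply,
      Pi.smul_apply, he, Pi.single_eq_same, Pi.single_eq_of_ne hL0, Pi.single_eq_of_ne (Ne.symm hL0),
      Pi.single_eq_of_ne (hP ▸ hL ▸ last_ne_prev (k := k)), Fin.val_zero, pow_zero]
    rw [show L.1 = k + 1 from rfl, ← hr0]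
    simp only [map_mul, hh.invol] at hiso
    rw [hR, hπ] at hmain
    have hγr : γ * r0 - (l * σ d - d) = 0 := by
      rw [hγ]; linear_combination (l * σ d - d) * hr0sq
    linear_combination hiso + hmain + (σ β1) * hγr
  · rw [coForm_apply]
    simp [comp_single, hb0, hγ0]

set_option maxHeartbeats 1000000 in
/-- `q ≥ 3`, dimension at least five. -/
theorem generators_big [Finite F] (hK : ∀ c : F, ∃ c' : F, σ c' = c' ∧ c' ≠ 0 ∧ c' ≠ c)
    (hperf : commutator (SUH (coForm k σ)) = ⊤) {d : F} (hd : d + σ d = -1) :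
    ∃ g1 g2 : UH (coForm k σ), g1 ∈ SUH (coForm k σ) ∧ g2 ∈ SUH (coForm k σ) ∧
      SUH (coForm k σ) ≤ Subgroup.closure
        ({reg hh hd, g1 * reg hh hd * g1⁻¹, g2 * reg hh hd * g2⁻¹} : Set (UH (coForm k σ))) := by
  set L := lastIdx k with hL
  set u := reg hh hd with hu
  obtain ⟨z0, hz0⟩ := IsCyclic.exists_monoid_generator (α := Fˣ)
  set l : F := (z0 : F) with hl
  have hl0 : l ≠ 0 := z0.ne_zero
  have hgen : ∀ a : F, a ≠ 0 → ∃ p : ℕ, a = l ^ p := fun a ha => by
    obtain ⟨p, hp⟩ := hz0 (Units.mk0 a ha)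
    exact ⟨p, by simpa [hl] using (congrArg Units.val hp).symm⟩
  have hnorm : ∀ c : F, σ c = c → c ≠ 0 → ∃ i : ℕ, c = (σ l * l) ^ i := by
    intro c hc hc0
    obtain ⟨x, hx⟩ := hh.exists_norm_eq hc
    obtain ⟨p, rfl⟩ := hgen x (fun e => hc0 (by rw [← hx, e, mul_zero]))
    exact ⟨p, by rw [← hx, mul_pow, map_pow]⟩
  have hd0 : d ≠ 0 := by rintro rfl; simp at hd
  have hσd0 : σ d ≠ 0 := (map_ne_zero σ).2 hd0
  have hg : l * σ d - d ≠ 0 := by
    intro e
    obtain ⟨c', hc', hc'0, hc'1⟩ := hK 1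
    obtain ⟨i, hi⟩ := hnorm c' hc' hc'0
    have h1 : σ l * l = 1 := by
      have e1 : l * σ d = d := sub_eq_zero.1 e
      have e2 := congrArg σ e1
      rw [map_mul, hh.invol] at e2
      refine mul_right_cancel₀ hd0 ?_
      calc σ l * l * d = l * (σ l * d) := by ring
        _ = 1 * d := by rw [e2, e1, one_mul]
    exact hc'1 (by rw [hi, h1, one_pow])
  set ν := 2 * σ d - 1 with hν
  have hσν : σ ν = 2 * d - 1 := by simp [hν, hh.invol, map_ofNat]
  have hdet : d * d * ν + σ (d * d * ν) ≠ 0 := by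
    rw [map_mul, map_mul, hσν, hν]
    intro e
    exact one_ne_zero (α := F) (by
      linear_combination (-1 : F) * e + (2 * d * σ d - d - σ d + 1) * hd)
  obtain ⟨y, hyy, hcy, hry, hQ, he1y⟩ := exists_y hh hd hg (l * ν)
  set c : Co k F := (Pi.single L 1, 0, 0) with hc
  set x : Co k F := (0, 0, Pi.single L 1) with hx
  set z := l⁻¹ • (u • y) with hzdef
  have hux : u • x = ((d • (Pi.single (prevIdx k) 1 + Pi.single L 1) : Fin (k + 2) → F), 1,
      Pi.single L 1) := by
    rw [hu, hx, reg_smul, ← hL, Pi.single_eq_same, mul_one, sub_zero, zero_add, zero_add,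
      mulVec_smul, hL, bidiag_last, SpGen.dual_single_last]
  have huix : u⁻¹ • x = (σ d • Pi.single L 1, -1, Pi.single L 1) := by
    rw [inv_smul_eq_iff, hu, hx, reg_smul, ← hL, Pi.single_eq_same, mul_one, sub_neg_eq_add,
      neg_add_cancel, ← add_smul,
      show σ d + (d + 1) = 0 by linear_combination hd, zero_smul, mulVec_zero, hL,
      SpGen.dual_single_last]
  have hxx : coForm k σ x x = 0 := by simp [hx, coForm_apply]
  have hxux : coForm k σ x (u • x) = d := by
    rw [hux, hx, coForm_apply]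
    simp [comp_single, hL, last_ne_prev]
  have hxuix : coForm k σ x (u⁻¹ • x) = σ d := by
    rw [← uh_smul_smul u, smul_inv_smul, hh.swap x, hxux]
  have hν' : coForm k σ (u • x) (u⁻¹ • x) = ν := by
    rw [hux, huix, coForm_apply, hν]
    simp [comp_single, hL, last_ne_prev, Ne.symm (last_ne_prev (k := k)), hh.invol]
    ring
  have hzz : coForm k σ z z = 0 := by rw [hzdef, form_smul_self, uh_smul_smul, hyy, mul_zero]
  have hcz : coForm k σ c z = σ d := by
    rw [hzdef, map_smul, smul_eq_mul, ← uh_smul_smul u⁻¹, inv_smul_smul, hc, hry, ← mul_assoc,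
      inv_mul_cancel₀ hl0, one_mul]
  have hyz : coForm k σ y z = ν := by
    rw [hzdef, map_smul, hQ, smul_eq_mul, inv_mul_cancel_left₀ hl0]
  have hcc : coForm k σ c c = 0 := eT_isotropic hh
  obtain ⟨g1, hg1, hgx, hgux, hguix⟩ := exists_SUH_triangle hh (by rw [finrank_co]; omega)
    hxx (by rw [uh_smul_smul, hxx]) (by rw [uh_smul_smul, hxx]) hxux hxuix hν' hcc hyy hzz hcy
    hcz hyz hd0 hdet
  obtain ⟨κ, hκ0, hκ⟩ := hh.exists_skew
  have hκc := transv_cond (h := coForm k σ) hcc hκ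
  obtain ⟨hTf, hTφ⟩ := transv_last_mem hh (κ := κ) hκc
  obtain ⟨g2, hg2, hw⟩ := exists_conj_eq_mul hh hd (z := uDil hh c κ hκc) hTf hTφ
  refine ⟨g1, g2, hg1, hg2, ?_⟩
  set v := g1 * u * g1⁻¹ with hv
  set w := g2 * u * g2⁻¹ with hwdef
  set H := Subgroup.closure ({u, v, w} : Set (UH (coForm k σ)))
  have huH : u ∈ H := Subgroup.subset_closure (by simp)
  have hvH : v ∈ H := Subgroup.subset_closure (by simp)
  have hwH : w ∈ H := Subgroup.subset_closure (by simp)
  have hgix : g1⁻¹ • c = x := by rw [← hgx, inv_smul_smul]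
  have hvc : v • c = y := by rw [hv, mul_smul, mul_smul, hgix, hgux]
  have hvic : v⁻¹ • c = z := by
    rw [hv, _root_.mul_inv_rev, _root_.mul_inv_rev, inv_inv, mul_smul, mul_smul, hgix, hguix]
  have hT : uDil hh c κ hκc ∈ H := by
    have : uDil hh c κ hκc = u⁻¹ * w := by rw [hw, ← hu, inv_mul_cancel_left]
    rw [this]
    exact mul_mem (inv_mem huH) hwH
  have hwc : (v * u * v) • c = l • c := by
    have e : u • y = l • z := by rw [hzdef, smul_inv_smul₀ hl0]
    have e2 : v • z = c := by rw [← hvic, smul_inv_smul]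
    rw [mul_smul, mul_smul, hvc, e, smul_comm v l z, e2]
  have hcC : c ∈ centres hh H :=
    mem_centres_of_scale (hh := hh) (H := H) (c := c) (κ := κ) (l := l) hcc hκ0 hκc hT hnorm
      (g := v * u * v) (mul_mem (mul_mem hvH huH) hvH) hwc
  have hyC : y ∈ centres hh H := hvc ▸ centres_image hvH hcC
  have hzC : z ∈ centres hh H := hvic ▸ centres_image (inv_mem hvH) hcC
  have hC := centres_lineClosed (hh := hh) (H := H)
  obtain ⟨p, g, hp, hpg, hg1', hg2', hgg⟩ := triangle_split hh hcc hyy hzz hcy hcz hyz hd0 hdet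
  obtain ⟨W, hW, hcW, hyW, hgW⟩ := exists_full_of_triangle hh hC hcC hyC (by rw [hcy]; exact hd0)
    hp hg1' hg2' (hpg ▸ hzC) hgg
  have hzW : z ∈ W := by
    rw [← hpg]
    refine W.add_mem (Submodule.span_le.2 ?_ hp) hgW
    rintro a (rfl | rfl)
    · exact hcW
    · exact hyW
  have huyW : u • y ∈ W := by
    rw [← smul_inv_smul₀ hl0 (u • y), ← hzdef]
    exact W.smul_mem _ hzW
  refine SUH_le_of_centres hh H (by rw [finrank_co]; omega) hperf fun a ha =>
    all_iso_mem hh hC hK (u := u) (e1 := ((Pi.single 0 1, 0, 0) : Co k F)) (reg_fixed hh hd)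
      (fun a => ⟨2 * k + 5, ?_⟩) (fun a ha => centres_image huH ha)
      (fun a ha => centres_image (inv_mem huH) ha) ⟨y, hyC, he1y⟩ hW hyW ?_ hyy huyW ha
  · have e : ∀ (i : ℕ) (b : Co k F), (fun z => u • z - z)^[i] b = (shift u ^ i) b := by
      intro i b
      induction i with
      | zero => simp
      | succ i ih => rw [Function.iterate_succ_apply', ih, pow_succ', Module.End.mul_apply,
          shift_apply]
    rw [e, shift_pow_eq_zero (reg_flag hh hd), LinearMap.zero_apply]
  · intro e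
    rw [e, map_zero] at hcy
    exact hd0 hcy.symm

end Main

end Cfsg.Agent.SUGen
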