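import Cfsg.Agent.Lib.SUGen.DimThree

/-!
Two conjugates of the regular unipotent generate the three-dimensional special unitary group.
-/

set_option autoImplicit false

namespace Cfsg.Agent.SUGen.Dim3

open Matrix Cfsg.Agent.ClassicalSimple

variable {F : Type*} [Field F] [Fintype F] {q : ℕ}

/-- Either an element generates the field, or its Frobenius images are few. -/
theorem closure_eq_top_or (hF : Fintype.card F = q ^ 2) (ε : F) :
    Subring.closure ({ε} : Set F) = ⊤ ∨ ε ^ q = ε ∨ ∃ c, c ^ 3 ≤ q ∧ ε ^ q = ε ^ c := by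
  classical
  set R := Subring.closure ({ε} : Set F) with hR
  letI : Field R := Fintype.fieldOfDomain R
  set k := Fintype.card R
  set m := Module.finrank R F
  have hcard : Fintype.card F = k ^ m := Module.card_eq_pow_finrank
  have hfix : ε ^ k = ε := by
    have := FiniteField.pow_card (⟨ε, Subring.subset_closure rfl⟩ : R)
    simpa using congrArg Subtype.val this
  have hit : ∀ j, ε ^ k ^ j = ε := fun j => by
    induction j with
    | zero => simp
    | succ j ih => rw [pow_succ, pow_mul, ih, hfix]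
  have hk : 1 < k := Fintype.one_lt_card
  rcases Nat.even_or_odd m with ⟨j, hj⟩ | ⟨j, hj⟩
  · refine Or.inr (Or.inl ?_)
    have : q = k ^ j := Nat.pow_left_injective two_ne_zero (by
      show q ^ 2 = (k ^ j) ^ 2
      rw [← hF, hcard, hj, ← pow_mul]; congr 1; omega)
    rw [this, hit]
  rcases Nat.eq_zero_or_pos j with rfl | hj0
  · left
    rw [eq_top_iff]
    intro x _
    have hb : Function.Bijective (Subtype.val : R → F) :=
      (Fintype.bijective_iff_injective_and_card _).2
        ⟨Subtype.val_injective, by rw [hcard, hj]; simp [k]⟩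
    obtain ⟨y, rfl⟩ := hb.2 x
    exact y.2
  refine Or.inr (Or.inr ?_)
  have hdvd : k ^ j ∣ q := (Nat.pow_dvd_pow_iff two_ne_zero).1 ⟨k, by
    rw [← hF, hcard, hj, ← pow_mul, ← pow_succ]; congr 1; omega⟩
  obtain ⟨c, hc⟩ := hdvd
  have hc2 : c ^ 2 = k := by
    have e : (k ^ j) ^ 2 * c ^ 2 = (k ^ j) ^ 2 * k := by
      rw [← mul_pow, ← hc, ← hF, hcard, hj, ← pow_mul, ← pow_succ]; congr 1; omega
    exact mul_left_cancel₀ (pow_ne_zero _ (pow_ne_zero _ (by omega))) e
  refine ⟨c, ?_, by rw [hc, pow_mul, hit]⟩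
  calc c ^ 3 = k * c := by rw [pow_succ, hc2]
    _ ≤ k ^ j * c := Nat.mul_le_mul_right _ (Nat.le_self_pow (by omega) k)
    _ = q := hc.symm

/-- An element of prescribed multiplicative order. -/
theorem exists_orderOf {n : ℕ} (hn : n ∣ Fintype.card F - 1) : ∃ x : F, orderOf x = n := by
  obtain ⟨g, hg⟩ := IsCyclic.exists_ofOrder_eq_natCard (α := Fˣ)
  rw [Nat.card_units, Nat.card_eq_fintype_card] at hg
  refine ⟨((g ^ (orderOf g / n) : Fˣ) : F), ?_⟩
  rw [orderOf_units, orderOf_pow_orderOf_div ((orderOf_pos g).ne') (hg ▸ hn)]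

variable {σ : F →+* F} (hh : IsUnitaryForm σ (form3 σ)) (hσ : ∀ x, σ x = x ^ q)
include hh hσ

/-- The generic case. -/
theorem exists_generic (hq : 2 < q) (h5 : q ≠ 5) (h8 : q ≠ 8) (hF : Fintype.card F = q ^ 2) :
    ∃ (d r e : F) (hd : d + σ d = -1) (hr : σ r = r) (he : e + σ e = -(r * r)), r ≠ 0 ∧
      (![1, 0, 0] : Fin 3 → F) ∈
        centres hh (Subgroup.closure {upper hh hd, lower hh hr he}) := by
  obtain ⟨l, hl⟩ := exists_orderOf (F := F) (n := q + 1) (by
    rw [hF]
    exact ⟨q - 1, by rw [← Nat.sq_sub_sq, one_pow]⟩)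
  have hl1 : l ^ (q + 1) = 1 := hl ▸ pow_orderOf_eq_one l
  have hσl : σ l * l = 1 := by rw [hσ, ← pow_succ, hl1]
  have hl0 : l ≠ 0 := fun e => by rw [e, mul_zero] at hσl; exact zero_ne_one hσl
  have hP : 1 + l ≠ 0 := fun e => by
    have h2 : l ^ 2 = 1 := by linear_combination (l - 1) * e
    have := Nat.le_of_dvd (by norm_num) (hl ▸ orderOf_dvd_of_pow_eq_one h2)
    omega
  have hσl' : σ l = l⁻¹ := eq_inv_of_mul_eq_one_left hσl
  set r := (1 + l) * (1 + l) / l with hr_def
  set e := -(r * (1 + l)) with he_def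
  set d := -((2 * l * l + l + 1) / ((1 + l) * (1 + l) * (1 + l))) with hd_def
  have hP' : 1 + l⁻¹ ≠ 0 := by
    intro e0; apply hP; field_simp at e0; linear_combination e0
  have hr : σ r = r := by
    rw [hr_def, map_div₀, map_mul, map_add, map_one, hσl']
    field_simp
    ring
  have he : e + σ e = -(r * r) := by
    rw [he_def, map_neg, map_mul, hr, map_add, map_one, hσl', hr_def]
    field_simp
    ring
  have hd : d + σ d = -1 := by
    have f1 : σ (2 * l * l + l + 1) = (2 + l + l * l) / (l * l) := by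
      rw [map_add, map_add, map_mul, map_mul, map_ofNat, map_one, hσl']; field_simp
    have f2 : σ ((1 + l) * (1 + l) * (1 + l)) = (1 + l) * (1 + l) * (1 + l) / (l * l * l) := by
      rw [map_mul, map_mul, map_add, map_one, hσl']; field_simp; ring
    rw [hd_def, map_neg, map_div₀, f1, f2]
    field_simp
    ring
  have hr0 : r ≠ 0 := div_ne_zero (mul_ne_zero hP hP) hl0
  refine ⟨d, r, e, hd, hr, he, hr0, ?_⟩
  set H := Subgroup.closure {upper hh hd, lower hh hr he}
  have huH : upper hh hd ∈ H := Subgroup.subset_closure (by simp)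
  have hvH : lower hh hr he ∈ H := Subgroup.subset_closure (by simp)
  refine mem_centres_of_ratio hh hd ((Subgroup.closure_le _).2 ?_) huH
    (g := lower hh hr he * upper hh hd * lower hh hr he) (mul_mem (mul_mem hvH huH) hvH) (l := l)
    ?_ ?_
  · rintro _ (rfl | rfl)
    exacts [upper_mem hh hd, lower_mem hh hr he]
  · have hde : d * e = l - 1 + r := by
      rw [hd_def, he_def, hr_def]; field_simp; ring
    have hrl : r * l = 1 + 2 * l + l * l := by rw [hr_def]; field_simp; ring
    rw [mul_smul, mul_smul, lower_smul, upper_smul, lower_smul]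
    funext i
    fin_cases i <;> simp
    · linear_combination hde
    · linear_combination he_def + r * hde
    · linear_combination (e - r) * he_def + e * hde + r * hrl
  · have hε : l * l / σ l = l ^ 3 := by rw [hσl']; field_simp
    rw [hε]
    set ε := l ^ 3 with hε3
    rcases closure_eq_top_or hF ε with h | h | ⟨c, hc, h⟩
    · exact h
    all_goals exfalso
    · have h6 : l ^ 6 = 1 := by
        have e1 : ε ^ (q + 1) = 1 := by rw [hε3, ← pow_mul, mul_comm, pow_mul, hl1, one_pow]
        rw [pow_succ, h] at e1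
        linear_combination e1 + (ε + l ^ 3) * hε3
      have hd6 := hl ▸ orderOf_dvd_of_pow_eq_one h6
      have hle := Nat.le_of_dvd (by norm_num) hd6
      have hq5 : q ≤ 5 := by omega
      interval_cases q <;> omega
    · have hdv : l ^ (3 * (c + 1)) = 1 := by
        rw [pow_mul, ← hε3, pow_succ, ← h, ← pow_succ, hε3, ← pow_mul, mul_comm, pow_mul, hl1,
          one_pow]
      have hd' := hl ▸ orderOf_dvd_of_pow_eq_one hdv
      have hle := Nat.le_of_dvd (by omega) hd'
      have hc' : c ≤ 2 := by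
        by_contra hc'
        have : 9 * c ≤ c ^ 3 := by
          have := Nat.mul_le_mul (Nat.mul_le_mul (Nat.succ_le_of_lt (not_le.1 hc'))
            (Nat.succ_le_of_lt (not_le.1 hc'))) (le_refl c)
          calc 9 * c ≤ c * c * c := this
            _ = c ^ 3 := by ring
        omega
      have hq8 : q ≤ 8 := by omega
      interval_cases c <;> interval_cases q <;> omega

/-- The field with `25` elements. -/
theorem exists_five (hF : Fintype.card F = 25) (hq : q = 5) :
    ∃ (d r e : F) (hd : d + σ d = -1) (hr : σ r = r) (he : e + σ e = -(r * r)), r ≠ 0 ∧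
      (![1, 0, 0] : Fin 3 → F) ∈
        centres hh (Subgroup.closure {upper hh hd, lower hh hr he}) := by
  have h25 : ((25 : ℕ) : F) = 0 := by rw [← hF]; exact Nat.cast_card_eq_zero F
  have h5 : (5 : F) = 0 := mul_self_eq_zero.1 (by push_cast at h25; linear_combination h25)
  have h2 : (2 : F) ≠ 0 := fun e => one_ne_zero (α := F) (by linear_combination h5 - 2 * e)
  have hchar : ringChar F ≠ 2 := fun e => h2 (by
    have := CharP.cast_eq_zero F (ringChar F)
    rwa [e, Nat.cast_ofNat] at this)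
  have h3 : (3 : F) ≠ 0 := fun e => h2 (by linear_combination h5 - e)
  obtain ⟨x, hx⟩ := (FiniteField.isSquare_iff hchar h3).2 (by
    rw [hF]
    show (3 : F) ^ 12 = 1
    linear_combination (106288 : F) * h5)
  have hσx : σ x = -x := by
    rw [hσ, hq]
    linear_combination (2 * x) * h5 - (x * (x * x + 3)) * hx
  set d := 3 * x - 3 with hd_def
  have hσd : σ d = -(3 * x) - 3 := by rw [hd_def, map_sub, map_mul, map_ofNat, hσx, mul_neg]
  have hd : d + σ d = -1 := by rw [hσd, hd_def]; linear_combination (-1 : F) * h5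
  have hD : d * d + d + 2 = 0 := by
    rw [hd_def]; linear_combination (7 - 3 * x) * h5 - (9 : F) * hx
  have he : d + σ d = -(1 * 1) := by rw [hd, one_mul]
  refine ⟨d, 1, d, hd, map_one σ, he, one_ne_zero, ?_⟩
  set u := upper hh hd
  set v := lower hh (map_one σ) he
  set H := Subgroup.closure {u, v}
  have huH : u ∈ H := Subgroup.subset_closure (by simp)
  have hvH : v ∈ H := Subgroup.subset_closure (by simp)
  refine mem_centres_of_ratio hh hd ((Subgroup.closure_le _).2 ?_) huH
    (g := v * v * u * v * v * u * v⁻¹)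
    (mul_mem (mul_mem (mul_mem (mul_mem (mul_mem (mul_mem hvH hvH) huH) hvH) hvH) huH)
      (inv_mem hvH)) (l := d) ?_ ?_
  · rintro _ (rfl | rfl)
    exacts [upper_mem hh hd, lower_mem hh (map_one σ) he]
  · have hσd' : σ d = -1 - d := by linear_combination hd
    rw [mul_smul, mul_smul, mul_smul, mul_smul, mul_smul, mul_smul, lower_inv_smul, hσd',
      upper_smul, lower_smul, lower_smul, upper_smul, lower_smul, lower_smul]
    funext i
    fin_cases i <;> simp
    · linear_combination ((10) + (1) * d + (-2) * d ^ 2) * hD + ((-4) + (-2) * d) * h5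
    · linear_combination ((19) + (-4) * d ^ 2) * hD + ((-7) + (-2) * d) * h5
    · linear_combination ((-25) + (21) * d + (4) * d ^ 2 + (-4) * d ^ 3) * hD + ((9) + (-4) * d) * h5
  · have key : ∀ ε : F, ε = d * d / σ d → σ ε = ε → False := by
      intro ε hε e1
      rw [hε, map_div₀, map_mul, hh.invol] at e1
      have hd0 : d ≠ 0 := fun e0 => by
        rw [e0, mul_zero, zero_add, zero_add] at hD; exact h2 hD
      have hσd0 : σ d ≠ 0 := (map_ne_zero σ).2 hd0
      rw [div_eq_div_iff hd0 hσd0, hσd, hd_def] at e1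
      have hx0 : x = 0 := by linear_combination e1 + (65 * x) * h5 - (54 * x) * hx
      exact h3 (by rw [hx, hx0, mul_zero])
    rcases closure_eq_top_or (q := q) (by rw [hF, hq]; rfl) (d * d / σ d) with h | h | ⟨c, hc, h⟩
    · exact h
    · exact (key _ rfl (by rw [hσ]; exact h)).elim
    · exfalso
      refine key _ rfl ?_
      rw [hσ, h]
      have hc1 : c ≤ 1 := by
        by_contra hc'
        have := Nat.pow_le_pow_left (show 2 ≤ c by omega) 3
        omega
      interval_cases c
      · rw [pow_zero]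
        have e1 : σ (d * d / σ d) = 1 := by rw [hσ, h, pow_zero]
        have e2 := congrArg σ e1
        rw [hh.invol, map_one] at e2
        exact e2.symm
      · rw [pow_one]

/-- The field with `64` elements. -/
theorem exists_eight (hF : Fintype.card F = 64) (hq : q = 8) :
    ∃ (d r e : F) (hd : d + σ d = -1) (hr : σ r = r) (he : e + σ e = -(r * r)), r ≠ 0 ∧
      (![1, 0, 0] : Fin 3 → F) ∈
        centres hh (Subgroup.closure {upper hh hd, lower hh hr he}) := by
  have h64 : ((64 : ℕ) : F) = 0 := by rw [← hF]; exact Nat.cast_card_eq_zero F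
  have h2 : (2 : F) = 0 := eq_zero_of_pow_eq_zero (n := 6) (by
    push_cast at h64; linear_combination h64)
  obtain ⟨g0, hg0⟩ := exists_orderOf (F := F) (n := 7) (by rw [hF]; norm_num)
  obtain ⟨γ, hγ, hγ7⟩ : ∃ γ : F, γ * γ * γ + γ + 1 = 0 ∧ γ ^ 7 = 1 := by
    have h7 : g0 ^ 7 = 1 := hg0 ▸ pow_orderOf_eq_one g0
    have hne : g0 + 1 ≠ 0 := fun e => by
      have : g0 = 1 := by linear_combination e - h2
      rw [this, orderOf_one] at hg0
      omega
    have e : (g0 + 1) * ((g0 * g0 * g0 + g0 + 1) * (g0 * g0 * g0 + g0 * g0 + 1)) = 0 := by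
      linear_combination h7 + (g0 ^ 6 + g0 ^ 5 + 2 * g0 ^ 4 + 2 * g0 ^ 3 + g0 ^ 2 + g0 + 1) * h2
    rcases mul_eq_zero.1 e with e | e
    · exact absurd e hne
    rcases mul_eq_zero.1 e with e | e
    · exact ⟨g0, e, h7⟩
    · have hg : g0 ≠ 0 := fun e0 => by rw [e0, zero_pow (by norm_num)] at h7; exact zero_ne_one h7
      refine ⟨g0⁻¹, ?_, by rw [inv_pow, h7, inv_one]⟩
      field_simp
      linear_combination e
  have hγ0 : γ ≠ 0 := fun e => by rw [e] at hγ; simp at hγ
  have hσγ : σ γ = γ := by rw [hσ, hq, pow_succ, hγ7, one_mul]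
  obtain ⟨w, hw⟩ := exists_orderOf (F := F) (n := 3) (by rw [hF]; norm_num)
  have hw3 : w ^ 3 = 1 := hw ▸ pow_orderOf_eq_one w
  have hw1 : w - 1 ≠ 0 := fun e => by
    rw [sub_eq_zero.1 e, orderOf_one] at hw; omega
  have hW : w * w + w + 1 = 0 := mul_left_cancel₀ hw1 (by linear_combination hw3)
  have hσw : σ w = w * w := by
    rw [hσ, hq]; linear_combination (w ^ 5 + w ^ 2) * hw3
  have hd : w + σ w = -1 := by rw [hσw]; linear_combination hW
  set e := 1 + γ * γ * w with he_def
  have hσe : σ e = 1 + γ * γ * (w * w) := by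
    rw [he_def, map_add, map_one, map_mul, map_mul, hσγ, hσw]
  have he : e + σ e = -(γ * γ) := by
    rw [hσe, he_def]; linear_combination (γ * γ) * hW + h2
  refine ⟨w, γ, e, hd, hσγ, he, hγ0, ?_⟩
  set u := upper hh hd
  set v := lower hh hσγ he
  set H := Subgroup.closure {u, v}
  have huH : u ∈ H := Subgroup.subset_closure (by simp)
  have hvH : v ∈ H := Subgroup.subset_closure (by simp)
  set c : Fin 3 → F := ![1, 0, 0] with hc
  have hcc : form3 σ c c = 0 := by simp [hc, form3_apply]
  have h11 : (1 : F) + σ 1 = 0 := by rw [map_one]; linear_combination h2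
  have hT : uDil hh c 1 (transv_cond hcc h11) ∈ H := by
    rw [show uDil hh c 1 (transv_cond hcc h11) = u * u from UH.ext' fun x => ?_]
    · exact mul_mem huH huH
    rw [basis_decomp x]
    simp only [mul_smul, uDil_smul, smul_add, smul_comm u, hc, u, upper_smul]
    funext i
    fin_cases i <;> simp [form3_apply]
    all_goals first
      | (right; linear_combination h2)
      | linear_combination (x 1 + x 2 * (1 - w)) * h2
  set l := γ * (1 + w) with hl_def
  have hN : σ l * l = γ * γ := by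
    rw [hl_def, map_mul, map_add, map_one, hσγ, hσw]
    linear_combination (γ * γ) * hW + (γ * γ) * hw3
  refine mem_centres_of_scale hcc one_ne_zero (transv_cond hcc h11) hT (l := l) ?_
    (g := v * u⁻¹ * v * u * v)
    (mul_mem (mul_mem (mul_mem (mul_mem hvH (inv_mem huH)) hvH) huH) hvH) ?_
  · intro k hk hk0
    have hk7 : k ^ 7 = 1 := by
      rw [hσ, hq, pow_succ] at hk
      exact mul_right_cancel₀ hk0 (by rw [hk, one_mul])
    have hne : γ * γ ≠ 1 := fun e0 => one_ne_zero (α := F) (by
      linear_combination hγ - γ * e0 - γ * h2)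
    have hord : orderOf (γ * γ) = 7 :=
      orderOf_eq_prime (hp := ⟨by norm_num⟩) (by rw [mul_pow, hγ7, one_mul]) hne
    have hprim := IsPrimitiveRoot.iff_orderOf.2 hord
    obtain ⟨i, -, hi⟩ := hprim.eq_pow_of_pow_eq_one hk7
    exact ⟨i, by rw [hN, hi]⟩
  · have hσw' : σ w = -1 - w := by linear_combination hd
    rw [mul_smul, mul_smul, mul_smul, mul_smul, hc, lower_smul, upper_smul, lower_smul,
      upper_inv_smul, hσw', lower_smul, he_def]
    funext i
    fin_cases i <;> simp [hl_def]
    · linear_combination ((-1) + (-1) * γ ^ 2 + (3) * γ ^ 3 + (1) * γ ^ 4 + (-2) * w * γ ^ 2 + (-1) * w ^ 2 * γ ^ 4) * hW + ((-3) + (-1) * γ + (-1) * w + (-1) * w * γ) * hγ + ((2) + (3) * γ + (1) * γ ^ 2 + (2) * w * γ + (2) * w * γ ^ 2) * h2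
    · linear_combination ((-1) * γ + (-2) * γ ^ 2 + (4) * γ ^ 4 + (1) * γ ^ 5 + (-2) * w * γ ^ 3 + (-1) * w * γ ^ 4 + (-1) * w ^ 2 * γ ^ 5) * hW + ((1) + (-4) * γ + (-1) * γ ^ 2 + (5) * w + (-1) * w * γ + (-1) * w * γ ^ 2) * hγ + ((-1) + (4) * γ + (5) * γ ^ 2 + (-3) * w + (-2) * w * γ + (3) * w * γ ^ 2) * h2
    · linear_combination ((-1) + (8) * γ ^ 3 + (2) * γ ^ 4 + (-2) * γ ^ 5 + (-1) * γ ^ 6 + (-3) * w * γ ^ 2 + (4) * w * γ ^ 5 + (1) * w * γ ^ 6 + (-3) * w ^ 2 * γ ^ 4 + (-1) * w ^ 3 * γ ^ 6) * hW + ((-11) + (-3) * γ + (2) * γ ^ 2 + (1) * γ ^ 3 + (-2) * w + (-4) * w * γ + (-2) * w * γ ^ 2) * hγ + ((7) + (8) * γ + (-2) * γ ^ 2 + (1) * w + (5) * w * γ + (5) * w * γ ^ 2) * h2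

/-- Two conjugate regular unipotents generate `SU` in dimension three, `q ≥ 3`. -/
theorem generators_three (hq : 2 < q) (hF : Fintype.card F = q ^ 2)
    (hperf : commutator (SUH (form3 σ)) = ⊤) :
    ∃ (d : F) (hd : d + σ d = -1), ∃ g ∈ SUH (form3 σ), SUH (form3 σ) ≤
      Subgroup.closure ({upper hh hd, g * upper hh hd * g⁻¹} : Set (UH (form3 σ))) := by
  obtain ⟨d, r, e, hd, hr, he, hr0, hc⟩ : ∃ (d r e : F) (hd : d + σ d = -1) (hr : σ r = r)
      (he : e + σ e = -(r * r)), r ≠ 0 ∧ (![1, 0, 0] : Fin 3 → F) ∈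
        centres hh (Subgroup.closure {upper hh hd, lower hh hr he}) := by
    by_cases h5 : q = 5
    · exact exists_five hh hσ (by rw [hF, h5]; norm_num) h5
    by_cases h8 : q = 8
    · exact exists_eight hh hσ (by rw [hF, h8]; norm_num) h8
    exact exists_generic hh hσ hq h5 h8 hF
  obtain ⟨g, hg, hgv⟩ := exists_conj_lower hh hd hr he hr0
  refine ⟨d, hd, g, hg, ?_⟩
  rw [← hgv]
  exact generate_of_centre hh hr he hperf hr0 (Subgroup.subset_closure (by simp)) hc

end Cfsg.Agent.SUGen.Dim3
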