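import Cfsg.Agent.Lib.SUGen.Unip

/-!
Three conjugates of the regular unipotent generate `SU`: dimension at least five, `q = 2`.
-/

set_option autoImplicit false
set_option maxHeartbeats 1000000

namespace Cfsg.Agent.SUGen

open Matrix Cfsg.Agent.ClassicalSimple
open Cfsg.Agent.SpGen (bidiag bidiagDual ext0 lastIdx prevIdx)

variable {k : ℕ} {F : Type*} [Field F] {σ : F →+* F}

variable (hh : IsUnitaryForm σ (coForm k σ))
include hh

/-- The exchange of the two halves. -/
theorem exists_exchange (h2 : (2 : F) = 0) :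
    ∃ J : UH (coForm k σ), J ∈ SUH (coForm k σ) ∧
      ∀ (a : Fin (k + 2) → F) (t : F) (b : Fin (k + 2) → F),
        J • ((a, t, b) : Co k F) = (b, t, a) := by
  let T : Co k F →ₗ[F] Co k F :=
    { toFun := fun x => (x.2.2, x.2.1, x.1)
      map_add' := fun _ _ => rfl
      map_smul' := fun _ _ => rfl }
  have hT : ∀ x y, coForm k σ (T x) (T y) = coForm k σ x y := by
    rintro ⟨a, t, b⟩ ⟨a', t', b'⟩
    show coForm k σ (b, t, a) (b', t', a') = coForm k σ (a, t, b) (a', t', b')
    rw [coForm_apply, coForm_apply, add_comm ((σ ∘ b) ⬝ᵥ a')]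
  refine ⟨uMk hh T hT, ?_, fun a t b => rfl⟩
  rw [mem_SUH]
  have e1 : uMk hh T hT * uMk hh T hT = 1 := UH.ext' fun x => by
    rw [mul_smul, one_smul]; rfl
  set D := LinearMap.det ((uMk hh T hT : Co k F ≃ₗ[F] Co k F) : Co k F →ₗ[F] Co k F) with hD
  have e2 : D * D = 1 := by
    rw [hD, ← map_mul, ← LinearEquiv.coe_toLinearMap_mul, ← Subgroup.coe_mul, e1]
    simp
  exact sub_eq_zero.1 (mul_self_eq_zero.1 (by linear_combination e2 - (D - 1) * h2))

/-- `q = 2`, dimension at least five. -/
theorem generators_two [Finite F] (h2 : (2 : F) = 0)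
    (hK2 : ∀ x : F, σ x = x → x = 0 ∨ x = 1) {d : F} (hd : d + σ d = -1)
    (hperf : commutator (SUH (coForm k σ)) = ⊤) :
    ∃ g1 g2 : UH (coForm k σ), g1 ∈ SUH (coForm k σ) ∧ g2 ∈ SUH (coForm k σ) ∧
      SUH (coForm k σ) ≤ Subgroup.closure
        ({reg hh hd, g1 * reg hh hd * g1⁻¹, g2 * reg hh hd * g2⁻¹} : Set (UH (coForm k σ))) := by
  have hneg : ∀ x : F, -x = x := fun x => by linear_combination (-x) * h2
  have htr : d + σ d = 1 := by rw [hd, hneg]
  have hd0 : d ≠ 0 := by rintro rfl; simp at htr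
  have hNd : σ d * d = 1 := by
    rcases hK2 (σ d * d) (by rw [map_mul, hh.invol, mul_comm]) with e | e
    · exact absurd e (mul_ne_zero ((map_ne_zero σ).2 hd0) hd0)
    · exact e
  have hsq : d * d + d + 1 = 0 := by linear_combination d * htr - hNd + d * h2
  have hdd : d * d = σ d := by linear_combination hsq - htr - h2
  have hone : ∀ {x : F}, σ x = x → x ≠ 0 → x = 1 := fun hx hx0 => (hK2 _ hx).resolve_left hx0
  set L := lastIdx k with hL
  set P := prevIdx k with hP
  have hLP : L ≠ P := fun e => by simpa [hL, hP, lastIdx, prevIdx] using congrArg Fin.val e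
  set A := bidiag k F with hA
  set D := bidiagDual k F with hD
  set u := reg hh hd with hu
  obtain ⟨J, hJ, hJ'⟩ := exists_exchange hh h2
  set c : Co k F := (Pi.single 0 1, 0, 0) with hc_def
  have hcc : coForm k σ c c = 0 := by simp [hc_def, coForm_apply]
  have hT1 := transv_cond (h := coForm k σ) hcc (θ := 1) (by
    rw [map_one]; linear_combination h2)
  have happ : ∀ (a : Fin (k + 2) → F) (t : F) (b : Fin (k + 2) → F),
      uDil hh c 1 hT1 • ((a, t, b) : Co k F) = (a + b 0 • Pi.single 0 1, t, b) := by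
    intro a t b
    rw [uDil_smul, hc_def, coForm_apply]
    simp [comp_single]
  have hTf : uDil hh c 1 hT1 ∈ flagGroup k σ := by
    rintro j ⟨a, t, b⟩ ⟨h1, h2', h3⟩
    rw [happ]
    refine ⟨fun l hl => ?_, fun _ => sub_self t, fun l _ => sub_self (b l)⟩
    simp only [Prod.fst_sub, Pi.sub_apply, Pi.add_apply, Pi.smul_apply, smul_eq_mul]
    by_cases hl0 : l = 0
    · subst hl0
      have : b 0 = 0 := h3 0 (by simp at hl ⊢; omega)
      simp [this]
    · simp [hl0]
  have hTφ : phi (uDil hh c 1 hT1) = 0 := by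
    refine Prod.ext (funext fun i => ?_) ?_
    · simp only [phi, happ, Pi.zero_apply, zero_smul, add_zero]
      exact Pi.single_eq_of_ne (lo_ne_hi i) _
    · simp [phi, happ]
  obtain ⟨g2, hg2, hw⟩ := exists_conj_eq_mul hh hd (z := uDil hh c 1 hT1) hTf hTφ
  refine ⟨J, g2, hJ, hg2, ?_⟩
  set v := J * u * J⁻¹ with hv
  set w := g2 * u * g2⁻¹ with hwdef
  set H := Subgroup.closure ({u, v, w} : Set (UH (coForm k σ)))
  have huH : u ∈ H := Subgroup.subset_closure (by simp)
  have hvH : v ∈ H := Subgroup.subset_closure (by simp)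
  have hwH : w ∈ H := Subgroup.subset_closure (by simp)
  set C := centres hh H with hCdef
  have hC : LineClosed (coForm k σ) C := centres_lineClosed (hh := hh) (H := H)
  have hcC : c ∈ C := by
    have hT : uDil hh c 1 hT1 ∈ H := by
      rw [show uDil hh c 1 hT1 = u⁻¹ * w by rw [hw, ← hu, inv_mul_cancel_left]]
      exact mul_mem (inv_mem huH) hwH
    refine mem_centres_of_prime hcc one_ne_zero hT1 hT fun x hx => ?_
    rcases hK2 x hx with rfl | rfl
    · exact ⟨0, by simp⟩
    · exact ⟨1, by simp⟩
  have hv_smul : ∀ (a : Fin (k + 2) → F) (t : F) (b : Fin (k + 2) → F), v • ((a, t, b) : Co k F) =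
      (D *ᵥ a, t + a L, A *ᵥ (b + (d * a L - t) • Pi.single L 1)) := by
    intro a t b
    have hji : J⁻¹ • ((a, t, b) : Co k F) = (b, t, a) := by rw [inv_smul_eq_iff, hJ']
    rw [hv, mul_smul, mul_smul, hji, hu, reg_smul, hJ']
  have hu_smul : ∀ y : Fin (k + 2) → F, u • ((y, 0, 0) : Co k F) = (A *ᵥ y, 0, 0) := fun y => by
    rw [hu, reg_smul]
    simp [hA]
  have R1 : ∀ y : Fin (k + 2) → F, y L = 0 → ((D *ᵥ y, 0, 0) : Co k F) ∈ C →
      ((y, 0, 0) : Co k F) ∈ C := by
    intro y hy hm
    have := centres_image (inv_mem hvH) hm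
    rwa [show v⁻¹ • ((D *ᵥ y, 0, 0) : Co k F) = (y, 0, 0) by
      rw [inv_smul_eq_iff, hv_smul, hy]; simp] at this
  have R2 : ∀ y : Fin (k + 2) → F, y L = 0 → ((y, 0, 0) : Co k F) ∈ C →
      ((D *ᵥ y, 0, 0) : Co k F) ∈ C := by
    intro y hy hm
    have := centres_image hvH hm
    rwa [show v • ((y, 0, 0) : Co k F) = (D *ᵥ y, 0, 0) by
      rw [hv_smul, hy]; simp] at this
  have R3 : ∀ y : Fin (k + 2) → F, ((A *ᵥ y, 0, 0) : Co k F) ∈ C → ((y, 0, 0) : Co k F) ∈ C := by
    intro y hm
    have := centres_image (inv_mem huH) hm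
    rwa [← hu_smul, inv_smul_smul] at this
  have hAy : ∀ (y : Fin (k + 2) → F) (i : ℕ), i < k + 2 →
      ext0 (A *ᵥ y) i = ext0 y i + ext0 y (i + 1) := by
    intro y i hi
    rw [SpGen.ext0, dif_pos hi, hA, SpGen.bidiag_mulVec, ← SpGen.ext0_val y ⟨i, hi⟩]
  have hext : ∀ {y : Fin (k + 2) → F}, σ ∘ y = y → ∀ i, σ (ext0 y i) = ext0 y i := fun hy i => by
    unfold SpGen.ext0
    split_ifs with h
    · exact congrFun hy _
    · exact map_zero σ
  have hratA : ∀ {y : Fin (k + 2) → F}, σ ∘ y = y → σ ∘ (A *ᵥ y) = A *ᵥ y := fun hy => by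
    rw [hA, comp_bidiag, hy]
  have hfull : ∀ K : ℕ, K ≤ k + 1 → ∀ y : Fin (k + 2) → F, σ ∘ y = y →
      (∀ i, K < i → ext0 y i = 0) → ((y, 0, 0) : Co k F) ∈ C := by
    intro K
    induction K with
    | zero =>
      intro _ y _ hy
      have e : ((y, 0, 0) : Co k F) = y 0 • c := by
        refine Prod.ext (funext fun i => ?_) (Prod.ext (by simp [hc_def]) (by simp [hc_def]))
        by_cases hi : i = 0
        · subst hi; simp [hc_def]
        · have := hy i.1 (Nat.pos_of_ne_zero fun e => hi (Fin.ext e))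
          rw [SpGen.ext0_val] at this
          simp [hc_def, hi, this]
      rw [e]
      exact hC.smul _ hcC _
    | succ K ih =>
      intro hK y hyr hy
      have ihK := ih (by omega)
      by_cases htop : ext0 y (K + 1) = 0
      · refine ihK y hyr fun i hi => ?_
        rcases Nat.lt_or_ge (K + 1) i with h | h
        · exact hy i h
        · rwa [show i = K + 1 by omega]
      rcases Nat.lt_or_ge (K + 1) (k + 1) with hlt | hge
      · have hgood : ∀ z : Fin (k + 2) → F, σ ∘ z = z → (∀ i, K + 1 < i → ext0 z i = 0) →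
            ext0 z 0 = 0 → ((A *ᵥ z, 0, 0) : Co k F) ∈ C := by
          intro z hzr hz hz0
          refine R1 _ ?_ (ihK _ (by rw [hD, comp_dual, hratA hzr]) fun i hi => ?_)
          · rw [← SpGen.ext0_val (A *ᵥ z) L, hAy _ _ L.2, hz _ (by simp [hL, lastIdx]; omega),
              hz _ (by simp [hL, lastIdx]; omega), add_zero]
          · by_cases hi2 : i < k + 2
            swap
            · exact SpGen.ext0_ge _ (by omega)
            have hdz : D *ᵥ (A *ᵥ z) = fun j : Fin (k + 2) => ext0 z 0 + ext0 z (j.1 + 1) := by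
              refine SpGen.dual_mulVec_eq (funext fun j => ?_)
              rw [SpGen.bidiag_transpose_mulVec, ← SpGen.ext0_val (A *ᵥ z) j, hAy _ _ j.2]
              by_cases hj : j.1 = 0
              · rw [if_pos hj, hj]; simp
              · have hval : ∀ (f : Fin (k + 2) → F) (i : ℕ) (h : i < k + 2), ext0 f i = f ⟨i, h⟩ :=
                  fun f i h => dif_pos h
                rw [if_neg hj, hval _ (j.1 - 1) (by omega)]
                simp only [show j.1 - 1 + 1 = j.1 by omega]
                linear_combination (ext0 z 0) * h2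
            rw [SpGen.ext0, dif_pos hi2, hdz]
            simp only [hz0, zero_add]
            exact hz _ (by omega)
        have hstab : ∀ z : Fin (k + 2) → F, (∀ i, K + 1 < i → ext0 z i = 0) →
            ∀ i, K + 1 < i → ext0 (A *ᵥ z) i = 0 := fun z hz i hi => by
          by_cases hi2 : i < k + 2
          · rw [hAy _ _ hi2, hz i hi, hz (i + 1) (by omega), add_zero]
          · exact SpGen.ext0_ge _ (by omega)
        have hzero : ∀ z : Fin (k + 2) → F, σ ∘ z = z → (∀ i, K + 1 < i → ext0 z i = 0) →
            ext0 z 0 = 0 → ((z, 0, 0) : Co k F) ∈ C := fun z hr hz hz0 => R3 _ (hgood z hr hz hz0)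
        have key : ∀ (j : ℕ) (z : Fin (k + 2) → F), σ ∘ z = z → j ≤ K →
            (∀ i, K + 1 < i → ext0 z i = 0) → ext0 z 0 = 0 ∨ ext0 z (j + 1) ≠ 0 →
            ((z, 0, 0) : Co k F) ∈ C := by
          intro j
          induction j with
          | zero =>
            intro z hr _ hz h
            by_cases h0 : ext0 z 0 = 0
            · exact hzero z hr hz h0
            refine R3 _ (hzero _ (hratA hr) (hstab z hz) ?_)
            rw [hAy _ _ (by omega), hone (hext hr 0) h0,
              hone (hext hr (0 + 1)) (h.resolve_left h0)]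
            linear_combination h2
          | succ j ihj =>
            intro z hr hj hz h
            by_cases h0 : ext0 z 0 = 0
            · exact hzero z hr hz h0
            by_cases hzj : ext0 z (j + 1) = 0
            · refine R3 _ (ihj _ (hratA hr) (by omega) (hstab z hz) (Or.inr ?_))
              rw [hAy _ _ (by omega), hzj, zero_add]
              exact h.resolve_left h0
            · exact ihj z hr (by omega) hz (Or.inr hzj)
        exact key K y hyr le_rfl hy (Or.inr htop)
      · have hKk : K = k := by omega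
        subst hKk
        have hgood : ∀ z : Fin (K + 2) → F, σ ∘ z = z → ext0 z (K + 1) ≠ 0 → ext0 z K ≠ 0 →
            ((z, 0, 0) : Co K F) ∈ C := by
          intro z hzr hz1 hz0
          have e : z = D *ᵥ (Aᵀ *ᵥ z) := by rw [hD, hA, SpGen.dual_mulVec_eq rfl]
          rw [e]
          have hx : (Aᵀ *ᵥ z) L = 0 := by
            rw [hA, SpGen.bidiag_transpose_mulVec, ← SpGen.ext0_val z L]
            simp only [hL, lastIdx, Nat.succ_ne_zero, if_false, Nat.add_sub_cancel]
            rw [hone (hext hzr _) hz1, hone (hext hzr _) hz0]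
            linear_combination h2
          refine R2 _ hx (ihK _ ?_ fun i hi => ?_)
          · funext j
            rw [Function.comp_apply, RingHom.map_mulVec, hzr, hA, Matrix.transpose_map, bidiag_map]
          · by_cases hi2 : i < K + 2
            · rw [SpGen.ext0, dif_pos hi2]
              rwa [show (⟨i, hi2⟩ : Fin (K + 2)) = L from Fin.ext (by simp [hL, lastIdx]; omega)]
            · exact SpGen.ext0_ge _ (by omega)
        by_cases hp : ext0 y K = 0
        · refine R3 _ (hgood _ (hratA hyr) ?_ ?_)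
          · rw [hAy _ _ (by omega), SpGen.ext0_ge y (show K + 2 ≤ K + 1 + 1 by omega), add_zero]
            exact htop
          · rw [hAy _ _ (by omega), hp, zero_add]
            exact htop
        · exact hgood y hyr htop hp
  have hLag : ∀ a : Fin (k + 2) → F, σ ∘ a = a → ((a, 0, 0) : Co k F) ∈ C := fun a ha =>
    hfull (k + 1) le_rfl a ha fun i hi => SpGen.ext0_ge _ (by omega)
  -- rational vectors
  have hval : ∀ {a b a' b' : Fin (k + 2) → F}, σ ∘ a = a → σ ∘ b = b →
      coForm k σ ((a, 0, b) : Co k F) (a', 0, b') = a ⬝ᵥ b' + b ⬝ᵥ a' := fun ha hb => by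
    rw [coForm_apply, ha, hb, map_zero, mul_zero, add_zero]
  have hiso : ∀ {a b : Fin (k + 2) → F}, σ ∘ a = a → σ ∘ b = b →
      coForm k σ ((a, 0, b) : Co k F) (a, 0, b) = 0 := fun {a b} ha hb => by
    rw [hval ha hb, dotProduct_comm b a]
    linear_combination (a ⬝ᵥ b) * h2
  have hadd : ∀ {a b a' b' : Fin (k + 2) → F}, σ ∘ a = a → σ ∘ b = b → σ ∘ a' = a' → σ ∘ b' = b' →
      ((a, 0, b) : Co k F) ∈ C → ((a', 0, b') : Co k F) ∈ C → a ⬝ᵥ b' + b ⬝ᵥ a' ≠ 0 →
      ((a + a', 0, b + b') : Co k F) ∈ C := by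
    intro a b a' b' ha hb ha' hb' h1 h1' hne
    have hs : σ ∘ (a + a') = a + a' := by
      funext i; simp [congrFun ha i, congrFun ha' i, show σ (a i) = a i from congrFun ha i,
        show σ (a' i) = a' i from congrFun ha' i]
    have hs' : σ ∘ (b + b') = b + b' := by
      funext i; simp [show σ (b i) = b i from congrFun hb i,
        show σ (b' i) = b' i from congrFun hb' i]
    have := hC.line _ h1 _ h1' (by rwa [hval ha hb]) 1 (by
      rw [one_smul, Prod.mk_add_mk, Prod.mk_add_mk, add_zero]
      exact hiso hs hs')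
    rwa [one_smul, Prod.mk_add_mk, Prod.mk_add_mk, add_zero] at this
  have hsingle : ∀ i, σ ∘ (Pi.single i (1 : F) : Fin (k + 2) → F) = Pi.single i 1 := fun i => by
    rw [comp_single, map_one]
  have hsum : ∀ {x y : Fin (k + 2) → F}, σ ∘ x = x → σ ∘ y = y → σ ∘ (x + y) = x + y :=
    fun {x y} hx hy => funext fun i => by
      simp [show σ (x i) = x i from congrFun hx i, show σ (y i) = y i from congrFun hy i]
  have hsub : ∀ {x y : Fin (k + 2) → F}, σ ∘ x = x → σ ∘ y = y → σ ∘ (x - y) = x - y :=
    fun {x y} hx hy => funext fun i => by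
      simp [show σ (x i) = x i from congrFun hx i, show σ (y i) = y i from congrFun hy i]
  have hzero : σ ∘ (0 : Fin (k + 2) → F) = 0 := funext fun _ => map_zero σ
  have hshift : ∀ {a b : Fin (k + 2) → F}, σ ∘ a = a → σ ∘ b = b → ((a, 0, b) : Co k F) ∈ C →
      ∀ a', σ ∘ a' = a' → ((a', 0, b) : Co k F) ∈ C := by
    intro a b ha hb hm a' ha'
    by_cases hb0 : b = 0
    · subst hb0; exact hLag a' ha'
    have step : ∀ (a l : Fin (k + 2) → F), σ ∘ a = a → σ ∘ l = l → ((a, 0, b) : Co k F) ∈ C →
        b ⬝ᵥ l ≠ 0 → ((a + l, 0, b) : Co k F) ∈ C := by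
      intro a l ha hl hm hne
      have := hadd ha hb hl hzero hm (hLag l hl) (by rwa [dotProduct_zero, zero_add])
      rwa [add_zero] at this
    by_cases hl : b ⬝ᵥ (a' - a) = 0
    swap
    · simpa using step a (a' - a) ha (hsub ha' ha) hm hl
    obtain ⟨i, hi⟩ := Function.ne_iff.1 hb0
    have h1 := step a (Pi.single i 1) ha (hsingle i) hm (by simpa using hi)
    have h2' := step _ (a' - a - Pi.single i 1) (hsum ha (hsingle i))
      (hsub (hsub ha' ha) (hsingle i)) h1 (by rw [dotProduct_sub, hl]; simpa using hi)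
    rwa [show a + Pi.single i 1 + (a' - a - Pi.single i 1) = a' by abel] at h2'
  let M : (Fin (k + 2) → F) → Prop := fun b =>
    σ ∘ b = b ∧ ∀ a, σ ∘ a = a → ((a, 0, b) : Co k F) ∈ C
  have hM0 : M 0 := ⟨hzero, hLag⟩
  have hMadd : ∀ b1 b2, M b1 → M b2 → M (b1 + b2) := by
    rintro b1 b2 ⟨r1, h1⟩ ⟨r2, h2'⟩
    by_cases hb : b2 = 0
    · subst hb; simpa [M] using And.intro r1 h1
    obtain ⟨i, hi⟩ := Function.ne_iff.1 hb
    have := hadd (hsingle i) r1 hzero r2 (h1 _ (hsingle i)) (h2' 0 hzero) (by simpa using hi)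
    rw [add_zero] at this
    exact ⟨hsum r1 r2, hshift (hsingle i) (hsum r1 r2) this⟩
  have hMA : ∀ b, M b → M (A *ᵥ b) := fun b hb => ⟨hratA hb.1, hshift hzero (hratA hb.1) (by
    have := centres_image hvH (hb.2 0 hzero)
    rwa [show v • ((0, 0, b) : Co k F) = (0, 0, A *ᵥ b) by
      rw [hv_smul]; simp] at this)⟩
  -- the seed
  set Y : Co k F := (Pi.single L 1, 1, d • (Pi.single P 1 + Pi.single L 1)) with hY
  have hYC : Y ∈ C := by
    have := centres_image hvH (hLag (Pi.single L 1) (hsingle L))
    rwa [show v • ((Pi.single L 1, 0, 0) : Co k F) = Y by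
      rw [hv_smul, hY, hD, hL, SpGen.dual_single_last, hA]
      simp [mulVec_smul, SpGen.bidiag_single_succ (prevIdx k) (lastIdx k)
        (by simp [lastIdx, prevIdx]), hP]] at this
  have hseed : M (Pi.single P 1 + Pi.single L 1) := by
    have hAL : A *ᵥ Pi.single L (1 : F) = Pi.single P 1 + Pi.single L 1 :=
      SpGen.bidiag_single_succ _ _ (by simp [hL, hP, lastIdx, prevIdx])
    have hDP : D *ᵥ (Pi.single P 1 + Pi.single L 1) = Pi.single P (1 : F) := by
      refine SpGen.dual_mulVec_eq (funext fun i => ?_)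
      rw [SpGen.bidiag_transpose_mulVec, SpGen.ext0_single]
      have := i.2
      simp only [hL, hP, Pi.add_apply, Pi.single_apply, Fin.ext_iff, lastIdx, prevIdx]
      split_ifs <;> first | omega | (simp; done) | linear_combination h2
    have hDP2 : D *ᵥ Pi.single P (1 : F) = Pi.single P 1 + Pi.single L 1 := by
      refine SpGen.dual_mulVec_eq (funext fun i => ?_)
      rw [SpGen.bidiag_transpose_mulVec]
      have := i.2
      have hext2 : ext0 (Pi.single P (1 : F) + Pi.single L 1) (i.1 - 1) =
          ext0 (Pi.single P (1 : F)) (i.1 - 1) + ext0 (Pi.single L (1 : F)) (i.1 - 1) := by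
        simp only [SpGen.ext0]
        split_ifs <;> simp
      rw [hext2, SpGen.ext0_single, SpGen.ext0_single]
      simp only [hL, hP, Pi.add_apply, Pi.single_apply, Fin.ext_iff, lastIdx, prevIdx]
      split_ifs <;> first | omega | (simp; done) | linear_combination h2
    set z := σ d • Y with hz
    have hzC : z ∈ C := hC.smul _ hYC _
    have hz' : z = (σ d • Pi.single L 1, σ d, Pi.single P 1 + Pi.single L 1) := by
      rw [hz, hY]
      simp [← smul_add, smul_smul, hNd]
    have huz : u • z = (d • (Pi.single P 1 + Pi.single L 1), d, Pi.single P 1) := by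
      rw [hz', hu, reg_smul, ← hL, ← hA, ← hD, hDP]
      have e1 : (Pi.single P 1 + Pi.single L 1 : Fin (k + 2) → F) L = 1 := by simp [hLP]
      rw [e1, mul_one, ← add_smul, mulVec_smul, hAL,
        show σ d + (d - σ d) = d by ring,
        show σ d + 1 = d by linear_combination σ d * h2 - htr + h2 * 0]
    have huuz : u • u • z =
        (d • (A *ᵥ Pi.single P 1), d, Pi.single P 1 + Pi.single L 1) := by
      rw [huz, hu, reg_smul, ← hL, ← hA, ← hD, hDP2]
      have e1 : (Pi.single P (1 : F) : Fin (k + 2) → F) L = 0 := Pi.single_eq_of_ne hLP _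
      rw [e1, mul_zero, zero_sub, add_zero, hneg, smul_add, add_assoc, ← two_smul F, h2,
        zero_smul, add_zero, mulVec_smul]
    have hAP : (A *ᵥ Pi.single P (1 : F)) P = 1 ∧ (A *ᵥ Pi.single P (1 : F)) L = 0 := by
      rw [hA, SpGen.bidiag_single, SpGen.bidiag_single]
      constructor
      · simp
      · simp [hL, hP, lastIdx, prevIdx]
        try omega
    have hcross : coForm k σ z (u • u • z) = σ d := by
      rw [huuz, hz', coForm_apply]
      have e1 : σ ∘ (σ d • Pi.single L (1 : F) : Fin (k + 2) → F) = d • Pi.single L 1 := by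
        funext i
        by_cases h : i = L
        · subst h; simp [hh.invol]
        · simp [h]
      have e2 : σ ∘ (Pi.single P 1 + Pi.single L 1 : Fin (k + 2) → F) =
          Pi.single P 1 + Pi.single L 1 := hsum (hsingle P) (hsingle L)
      rw [e1, e2]
      have hAPe : A P P = 1 ∧ A L P = 0 := by simpa using hAP
      simp [hh.invol, hLP, hAPe.1, hAPe.2]
      linear_combination hdd + d * h2
    have hm := hC.line _ hzC _ (centres_image huH (centres_image huH hzC))
      (by rw [hcross]; exact (map_ne_zero σ).2 hd0) d (iso_add_smul hh (hC.iso _ hzC)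
        (by rw [uh_smul_smul, uh_smul_smul]; exact hC.iso _ hzC) (by
          rw [hcross, map_mul, hh.invol]; linear_combination 2 * hNd + h2))
    rw [huuz, hz'] at hm
    have hm2 := hC.smul _ hm d
    have hR : ((Pi.single L 1 + A *ᵥ Pi.single P 1, 0, Pi.single P 1 + Pi.single L 1) : Co k F) ∈
        C := by
      have e3 : d * (1 + d) = 1 := by linear_combination hsq - h2
      convert hm2 using 1
      simp only [Prod.smul_mk, Prod.mk_add_mk, smul_eq_mul]
      refine Prod.ext ?_ (Prod.ext ?_ ?_)
      · show _ = d • (σ d • Pi.single L 1 + d • d • (A *ᵥ Pi.single P 1))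
        rw [smul_add, smul_smul, smul_smul, smul_smul, mul_comm d (σ d), hNd,
          show d * d * d = 1 by rw [hdd, hNd], one_smul, one_smul]
      · show _ = d * (σ d + d * d)
        rw [hdd]
        linear_combination (-d * σ d) * h2
      · show _ = d • ((Pi.single P 1 + Pi.single L 1) + d • (Pi.single P 1 + Pi.single L 1))
        rw [← one_smul F (Pi.single P 1 + Pi.single L 1 : Fin (k + 2) → F), smul_smul d 1,
          mul_one, ← add_smul, smul_smul, e3]
    exact ⟨hsum (hsingle P) (hsingle L),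
      hshift (hsum (hsingle L) (hratA (hsingle P))) (hsum (hsingle P) (hsingle L)) hR⟩
  let δ : ℕ → (Fin (k + 2) → F) := fun i => if h : i < k + 2 then Pi.single ⟨i, h⟩ 1 else 0
  have hδ : ∀ i (h : i < k + 2), δ i = Pi.single (⟨i, h⟩ : Fin (k + 2)) 1 := fun i h => dif_pos h
  have hAδ : ∀ i, i + 1 < k + 2 → A *ᵥ δ (i + 1) = δ i + δ (i + 1) := fun i h => by
    rw [hδ _ h, hδ i (by omega)]
    exact SpGen.bidiag_single_succ _ _ rfl
  have hAδ0 : A *ᵥ δ 0 = δ 0 := by
    rw [hδ 0 (by omega)]
    exact SpGen.bidiag_single_zero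
  have hpairs : ∀ m i, i + m = k → M (δ i + δ (i + 1)) := by
    intro m
    induction m with
    | zero =>
      intro i hi
      rw [hδ i (by omega), hδ _ (by omega)]
      convert hseed using 3 <;> exact Fin.ext (by simp [hL, hP, lastIdx, prevIdx]; omega)
    | succ m ihm =>
      intro i hi
      have h1 := ihm (i + 1) (by omega)
      have h2' := hMadd _ _ (hMA _ h1) h1
      rw [mulVec_add, hAδ i (by omega), hAδ (i + 1) (by omega)] at h2'
      convert h2' using 1
      ext j
      simp only [Pi.add_apply]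
      linear_combination (-(δ (i + 1) j + δ (i + 1 + 1) j)) * h2
  have hδ0 : M (δ 0) := by
    have h1 := hpairs k 0 (by omega)
    have h2' := hMadd _ _ (hMA _ h1) h1
    rw [mulVec_add, hAδ0, hAδ 0 (by omega)] at h2'
    convert h2' using 1
    ext j
    simp only [Pi.add_apply]
    linear_combination (-(δ 0 j + δ (0 + 1) j)) * h2
  have hδall : ∀ i, i < k + 2 → M (δ i) := by
    intro i
    induction i with
    | zero => exact fun _ => hδ0
    | succ i ihi =>
      intro h
      have := hMadd _ _ (hpairs (k - i) i (by omega)) (ihi (by omega))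
      convert this using 1
      ext j
      simp only [Pi.add_apply]
      linear_combination (-(δ i j)) * h2
  have hM : ∀ b : Fin (k + 2) → F, σ ∘ b = b → M b := by
    intro b hb
    have key : ∀ S : Finset (Fin (k + 2)), M (∑ i ∈ S, Pi.single i (b i)) := by
      intro S
      induction S using Finset.induction with
      | empty => simpa using hM0
      | insert i S hi ih =>
        rw [Finset.sum_insert hi]
        refine hMadd _ _ ?_ ih
        rcases hK2 (b i) (congrFun hb i) with e | e <;> rw [e]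
        · rw [Pi.single_zero]; exact hM0
        · exact hδ i.1 i.2 ▸ hδall i.1 i.2
    simpa [Finset.univ_sum_single] using key Finset.univ
  have hrat : ∀ a b : Fin (k + 2) → F, σ ∘ a = a → σ ∘ b = b → ((a, 0, b) : Co k F) ∈ C :=
    fun a b ha hb => (hM b hb).2 a ha
  -- rational vectors of the even part
  let Rat : Co k F → Prop := fun x => σ ∘ x.1 = x.1 ∧ x.2.1 = 0 ∧ σ ∘ x.2.2 = x.2.2
  have hRatC : ∀ x, Rat x → x ∈ C := by
    rintro ⟨a, t, b⟩ ⟨ha, ht, hb⟩
    simp only at ht
    subst ht
    exact hrat a b ha hb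
  have hRatAdd : ∀ x y, Rat x → Rat y → Rat (x + y) := by
    rintro x y ⟨h1, h2', h3⟩ ⟨g1, g2', g3⟩
    exact ⟨hsum h1 g1, by simp [h2', g2'], hsum h3 g3⟩
  have hRatVal : ∀ x y, Rat x → Rat y →
      σ (coForm k σ x y) = coForm k σ x y ∧ coForm k σ y x = coForm k σ x y := by
    rintro ⟨a, t, b⟩ ⟨a', t', b'⟩ ⟨ha, ht, hb⟩ ⟨ha', ht', hb'⟩
    simp only at ha ht hb ha' ht' hb'
    subst ht ht'
    rw [hval ha hb, hval ha' hb']
    refine ⟨?_, by rw [dotProduct_comm a' b, dotProduct_comm b' a]; ring⟩
    simp only [map_add, dotProduct, map_sum, map_mul]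
    congr 1 <;>
    · refine Finset.sum_congr rfl fun i _ => ?_
      first
        | rw [show σ (a i) = a i from congrFun ha i, show σ (b' i) = b' i from congrFun hb' i]
        | rw [show σ (b i) = b i from congrFun hb i, show σ (a' i) = a' i from congrFun ha' i]
  have hRatIso : ∀ x, Rat x → coForm k σ x x = 0 := fun x hx => hC.iso x (hRatC x hx)
  set m : Co k F := (0, 1, 0) with hm_def
  have hRatm : ∀ x, Rat x → coForm k σ x m = 0 := by
    rintro ⟨a, t, b⟩ ⟨-, ht, -⟩
    simp only at ht
    subst ht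
    simp [hm_def, coForm_apply]
  let R : Co k F → Co k F → Prop := fun x y => x + d • y + m ∈ C
  -- one transvection on a pair
  have hmove : ∀ x y r, Rat x → Rat y → Rat r → R x y →
      R (x + coForm k σ r x • r) (y + coForm k σ r y • r) := by
    intro x y r _ _ hr hR
    have := move_mem hh hC (hRatC r hr) hR (θ := (1 : F)) (by rw [map_one]; linear_combination h2)
    rw [one_mul, map_add, map_add, map_smul, hRatm r hr, add_zero, smul_eq_mul] at this
    show _ + m ∈ C
    convert this using 1
    module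
  have hBsym : ∀ x y, Rat x → Rat y → coForm k σ x y ≠ 0 → coForm k σ x y = 1 ∧
      coForm k σ y x = 1 := fun x y hx hy hne => by
    have := hone (hRatVal x y hx hy).1 hne
    exact ⟨this, by rw [(hRatVal x y hx hy).2, this]⟩
  have stepX : ∀ x y x', Rat x → Rat y → Rat x' → R x y → coForm k σ x x' ≠ 0 →
      ∃ y', Rat y' ∧ R x' y' ∧ coForm k σ x' y' = coForm k σ x y := by
    intro x y x' hx hy hx' hR hne
    obtain ⟨e1, e2⟩ := hBsym x x' hx hx' hne
    set r := x + x' with hrdef
    have hr : Rat r := hRatAdd _ _ hx hx'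
    have h1 := hmove x y r hx hy hr hR
    have hrx : coForm k σ r x = 1 := by
      rw [hrdef, map_add, LinearMap.add_apply, hRatIso x hx, e2, zero_add]
    have ex : x + coForm k σ r x • r = x' := by
      rw [hrx, one_smul, hrdef, ← add_assoc, ← two_smul F x, h2, zero_smul, zero_add]
    rw [ex] at h1
    refine ⟨y + coForm k σ r y • r, ?_, h1, ?_⟩
    · rcases hK2 _ (hRatVal r y hr hy).1 with e | e <;> rw [e]
      · simpa using hy
      · simpa using hRatAdd _ _ hy hr
    · rw [map_add, map_smul, smul_eq_mul, hrdef, map_add (coForm k σ x'), e2, hRatIso x' hx',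
        add_zero, mul_one, map_add (coForm k σ), LinearMap.add_apply]
      linear_combination (coForm k σ x' y) * h2
  have exB : ∀ x x', Rat x → Rat x' → x ≠ 0 → x' ≠ 0 →
      ∃ z, Rat z ∧ coForm k σ x z ≠ 0 ∧ coForm k σ x' z ≠ 0 := by
    intro x x' hx hx' hx0 hx'0
    have basic : ∀ x, Rat x → x ≠ 0 → ∃ z, Rat z ∧ coForm k σ x z ≠ 0 := by
      rintro ⟨a, t, b⟩ ⟨ha, ht, hb⟩ hne
      simp only at ha ht hb
      subst ht
      by_cases ha0 : a = 0
      · subst ha0
        have hb0 : b ≠ 0 := fun e => hne (by simp [e])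
        obtain ⟨i, hi⟩ := Function.ne_iff.1 hb0
        refine ⟨(Pi.single i 1, 0, 0), ⟨hsingle i, rfl, hzero⟩, ?_⟩
        rw [hval hzero hb]
        simpa using hi
      · obtain ⟨i, hi⟩ := Function.ne_iff.1 ha0
        refine ⟨(0, 0, Pi.single i 1), ⟨hzero, rfl, hsingle i⟩, ?_⟩
        rw [hval ha hb]
        simpa using hi
    obtain ⟨z1, hz1, hz1'⟩ := basic x hx hx0
    obtain ⟨z2, hz2, hz2'⟩ := basic x' hx' hx'0
    by_cases e1 : coForm k σ x' z1 = 0
    · by_cases e2 : coForm k σ x z2 = 0
      · exact ⟨z1 + z2, hRatAdd _ _ hz1 hz2, by simp [e2, hz1'], by simp [e1, hz2']⟩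
      · exact ⟨z2, hz2, e2, hz2'⟩
    · exact ⟨z1, hz1, hz1', e1⟩
  have stepY : ∀ x y y', Rat x → Rat y → Rat y' → R x y → coForm k σ x y = 1 →
      coForm k σ x y' = 1 → coForm k σ y y' ≠ 0 → R x y' := by
    intro x y y' hx hy hy' hR e e' hne
    obtain ⟨e1, e2⟩ := hBsym y y' hy hy' hne
    set r := y + y' with hrdef
    have hr : Rat r := hRatAdd _ _ hy hy'
    have h1 := hmove x y r hx hy hr hR
    have hrx : coForm k σ r x = 0 := by
      rw [hrdef, map_add, LinearMap.add_apply, (hRatVal x y hx hy).2, e, (hRatVal x y' hx hy').2,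
        e']
      linear_combination h2
    have hry : coForm k σ r y = 1 := by
      rw [hrdef, map_add, LinearMap.add_apply, hRatIso y hy, e2, zero_add]
    rwa [hrx, zero_smul, add_zero, hry, one_smul, hrdef, ← add_assoc, ← two_smul F y, h2,
      zero_smul, zero_add] at h1
  -- the first pair
  have hR0 : R (Pi.single L 1, 0, 0) (0, 0, Pi.single P 1 + Pi.single L 1) := by
    show _ + m ∈ C
    convert hYC using 1
    rw [hY, hm_def]
    simp
  have hall1 : ∀ x y, Rat x → Rat y → coForm k σ x y = 1 → R x y := by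
    intro x y hx hy hxy
    set x0 : Co k F := (Pi.single L 1, 0, 0)
    set y0 : Co k F := (0, 0, Pi.single P 1 + Pi.single L 1)
    have hx0 : Rat x0 := ⟨hsingle L, rfl, hzero⟩
    have hy0 : Rat y0 := ⟨hzero, rfl, hsum (hsingle P) (hsingle L)⟩
    have h00 : coForm k σ x0 y0 = 1 := by
      rw [hval (hsingle L) hzero]
      simp [hLP]
    have hx0ne : x0 ≠ 0 := fun e => by rw [e, map_zero] at h00; simp at h00
    have hxne : x ≠ 0 := fun e => by rw [e, map_zero] at hxy; simp at hxy
    obtain ⟨z, hz, hz1, hz2⟩ := exB x0 x hx0 hx hx0ne hxne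
    obtain ⟨y1, hy1, hR1, e1⟩ := stepX x0 y0 z hx0 hy0 hz hR0 hz1
    obtain ⟨y2, hy2, hR2, e2⟩ := stepX z y1 x hz hy1 hx hR1
      (fun e => hz2 (hh.comm_zero e))
    rw [e1, h00] at e2
    by_cases hne : coForm k σ y2 y = 0
    swap
    · exact stepY x y2 y hx hy2 hy hR2 e2 hxy hne
    have hmid : Rat (x + y2) := hRatAdd _ _ hx hy2
    have f1 : coForm k σ x (x + y2) = 1 := by rw [map_add, hRatIso x hx, e2, zero_add]
    have f2 : coForm k σ y2 (x + y2) ≠ 0 := by
      rw [map_add, hRatIso y2 hy2, (hRatVal x y2 hx hy2).2, e2, add_zero]; exact one_ne_zero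
    have f3 : coForm k σ (x + y2) y ≠ 0 := by
      rw [map_add, LinearMap.add_apply, hne, hxy, add_zero]; exact one_ne_zero
    exact stepY x (x + y2) y hx hmid hy (stepY x y2 _ hx hy2 hmid hR2 e2 f1 f2) f1 hxy f3
  -- all vectors with middle coordinate one
  have hnorm1 : ∀ p : Co k F, p.2.1 = 0 → coForm k σ p p = 1 → p + m ∈ C := by
    intro p hpt hpp
    let g0 : F → F := fun f => σ d * f + d * σ f
    let g1 : F → F := fun f => f + σ f
    have hg0 : ∀ f, σ (g0 f) = g0 f := fun f => by simp [g0, hh.invol]; ring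
    have hg1 : ∀ f, σ (g1 f) = g1 f := fun f => by simp [g1, hh.invol]; ring
    have hg : ∀ f, f = g0 f + d * g1 f := fun f => by
      simp only [g0, g1]
      linear_combination (-f) * htr + (-(d * σ f)) * h2
    set x : Co k F := (g0 ∘ p.1, 0, g0 ∘ p.2.2) with hxdef
    set y : Co k F := (g1 ∘ p.1, 0, g1 ∘ p.2.2) with hydef
    have hx : Rat x := ⟨funext fun i => hg0 _, rfl, funext fun i => hg0 _⟩
    have hy : Rat y := ⟨funext fun i => hg1 _, rfl, funext fun i => hg1 _⟩
    have hp : p = x + d • y :=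
      Prod.ext (funext fun i => hg _) (Prod.ext (by simp [hxdef, hydef, hpt]) (funext fun i => hg _))
    have hxy : coForm k σ x y = 1 := by
      rw [hp] at hpp
      simp only [map_add, map_smulₛₗ, LinearMap.add_apply, LinearMap.smul_apply, smul_eq_mul,
        RingHom.id_apply, hRatIso x hx, hRatIso y hy, (hRatVal x y hx hy).2] at hpp
      linear_combination hpp - coForm k σ x y * htr
    rw [hp]
    exact hall1 x y hx hy hxy
  have hsplit : ∀ p : Co k F, p.2.1 = 0 → coForm k σ p m = 0 ∧ coForm k σ m p = 0 := by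
    rintro ⟨a, t, b⟩ ht
    simp only at ht
    subst ht
    simp [hm_def, coForm_apply]
  have hm1 : coForm k σ m m = 1 := by simp [hm_def, coForm_apply]
  have hall : ∀ x : Co k F, coForm k σ x x = 0 → x ∈ C := by
    intro x hx
    by_cases ht : x.2.1 = 0
    · by_cases hx0 : x = 0
      · rw [hx0, ← zero_smul F c]; exact hC.smul _ hcC _
      obtain ⟨r, hr, hxr⟩ : ∃ r, Rat r ∧ coForm k σ x r ≠ 0 := by
        by_contra hcon
        push Not at hcon
        refine hx0 (Prod.ext (funext fun i => ?_) (Prod.ext ht (funext fun i => ?_)))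
        · have := hcon (0, 0, Pi.single i 1) ⟨hzero, rfl, hsingle i⟩
          obtain ⟨a, t, b⟩ := x
          simpa [coForm_apply] using this
        · have := hcon (Pi.single i 1, 0, 0) ⟨hsingle i, rfl, hzero⟩
          obtain ⟨a, t, b⟩ := x
          simpa [coForm_apply] using this
      set τ := coForm k σ x r
      set f := τ⁻¹ • r
      have hxf : coForm k σ x f = 1 := by simp [f, τ, hxr]
      have hfx : coForm k σ f x = 1 := by rw [hh.swap, hxf, map_one]
      have hff : coForm k σ f f = 0 := by simp [f, hRatIso r hr]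
      have hft : f.2.1 = 0 := by simp [f, hr.2.1]
      set α := d • x + f with hα
      set β := σ d • x + f with hβ
      have hαt : α.2.1 = 0 := by simp [hα, ht, hft]
      have hβt : β.2.1 = 0 := by simp [hβ, ht, hft]
      have hαα : coForm k σ α α = 1 := by
        simp only [hα, map_add, map_smulₛₗ, LinearMap.add_apply, LinearMap.smul_apply, smul_eq_mul,
          RingHom.id_apply, hx, hxf, hfx, hff]
        linear_combination htr
      have hββ : coForm k σ β β = 1 := by
        simp only [hβ, map_add, map_smulₛₗ, LinearMap.add_apply, LinearMap.smul_apply, smul_eq_mul,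
          RingHom.id_apply, hx, hxf, hfx, hff, hh.invol]
        linear_combination htr
      have hαβ : coForm k σ α β = 0 := by
        simp only [hα, hβ, map_add, map_smulₛₗ, LinearMap.add_apply, LinearMap.smul_apply,
          smul_eq_mul, RingHom.id_apply, hx, hxf, hfx, hff, hh.invol]
        linear_combination (σ d) * h2
      have hone' : coForm k σ (α + m) (β + m) = 1 := by
        simp [hαβ, (hsplit α hαt).1, (hsplit β hβt).2, hm1]
      have := hC.line _ (hnorm1 α hαt hαα) _ (hnorm1 β hβt hββ) (by rw [hone']; exact one_ne_zero) 1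
        (iso_add_smul hh (hC.iso _ (hnorm1 α hαt hαα)) (hC.iso _ (hnorm1 β hβt hββ)) (by
          rw [hone', mul_one, map_one]; linear_combination h2))
      rwa [show α + m + (1 : F) • (β + m) = (d + σ d) • x + ((2 : F) • f + (2 : F) • m) by
        rw [hα, hβ]; module, htr, h2, one_smul, zero_smul, zero_smul, add_zero, add_zero] at this
    · set t := x.2.1
      set p := t⁻¹ • x - m with hp
      have hpt : p.2.1 = 0 := by simp [hp, hm_def, t, ht]
      have e1 : t⁻¹ • x = p + m := by rw [hp, sub_add_cancel]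
      have hpp : coForm k σ p p = 1 := by
        have : coForm k σ (p + m) (p + m) = 0 := by rw [← e1, form_smul_self, hx, mul_zero]
        simp only [map_add, LinearMap.add_apply, (hsplit p hpt).1, (hsplit p hpt).2, hm1] at this
        linear_combination this - h2
      rw [← smul_inv_smul₀ ht x, e1]
      exact hC.smul _ (hnorm1 p hpt hpp) _
  exact SUH_le_of_centres hh H (by rw [finrank_co]; omega) hperf hall

end Cfsg.Agent.SUGen
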