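import Cfsg.Agent.Lib.ClassicalSimple.UnitaryMatrix
import Cfsg.Agent.Lib.Field.HermDiag
import Cfsg.Agent.Lib.Fusion.HermIso
import Cfsg.Agent.Lib.SUGen.Three
import Cfsg.Agent.Lib.SUGen.Two
import Cfsg.Agent.Lib.SUGen.Big

/-!
From the coordinate models to `Cfsg.SU`.
-/

set_option autoImplicit false

namespace Cfsg.Agent.SUGen

open Matrix Cfsg.Agent.ClassicalSimple

variable {F : Type*} [Field F] [Fintype F] {q : ℕ} (hF : Fintype.card F = q ^ 2)
include hF

/-- All non-degenerate hermitian forms of one dimension are isometric to the standard one. -/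
theorem exists_isometry {V : Type*} [AddCommGroup V] [Module F V] [FiniteDimensional F V]
    {n : ℕ} (hn : Module.finrank F V = n) {h : V →ₛₗ[Forms.qEnd hF] V →ₗ[F] F}
    (hh : IsUnitaryForm (Forms.qEnd hF) h) :
    ∃ Φ : V ≃ₗ[F] (Fin n → F), ∀ x y, Forms.hermB hF n (Φ x) (Φ y) = h x y := by
  classical
  let b := Module.finBasisOfFinrankEq F V hn
  let G : Matrix (Fin n) (Fin n) F := fun i j => h (b i) (b j)
  have hGdet : G.det ≠ 0 := by
    intro e
    obtain ⟨w, hw0, hw⟩ := Matrix.exists_mulVec_eq_zero_iff.2 e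
    have hrow : ∀ i, h (b i) (∑ j, w j • b j) = 0 := fun i => by
      have := congrFun hw i
      simp only [Matrix.mulVec, dotProduct, G, Pi.zero_apply] at this
      rw [map_sum]
      simpa [mul_comm] using this
    have h0 : (∑ j, w j • b j) = 0 := hh.sep _ fun y => by
      refine hh.comm_zero ?_
      rw [← b.sum_repr y, map_sum h, LinearMap.sum_apply]
      exact Finset.sum_eq_zero fun i _ => by
        rw [map_smulₛₗ, LinearMap.smul_apply, hrow, smul_zero]
    exact hw0 (funext fun i => by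
      simpa using Fintype.linearIndependent_iff.1 b.linearIndependent w h0 i)
  have hherm : (G.map (Fusion.HermBlocks.qAut hF)).transpose = G := by
    ext i j
    exact (hh.swap (b j) (b i)).symm
  obtain ⟨K, hK⟩ := FieldExt.exists_herm_factor (Fusion.HermBlocks.qAut hF) (Fusion.HermBlocks.qAut_invol hF)
    (Fusion.HermBlocks.qAut_ne_one hF) (Matrix.GeneralLinearGroup.mk'' G (isUnit_iff_ne_zero.2 hGdet)) hherm
  set M := (K.val.map (Fusion.HermBlocks.qAut hF)).transpose with hM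
  have hdet : IsUnit M.det := by
    rw [hM, Matrix.det_transpose]
    have : IsUnit K.val.det := (Matrix.isUnit_iff_isUnit_det _).1 K.isUnit
    rw [← RingEquiv.mapMatrix_apply, ← RingEquiv.map_det]
    exact this.map _
  refine ⟨b.equivFun.trans (Matrix.toLinearEquiv' M (Matrix.invertibleOfIsUnitDet M hdet)),
    fun x y => ?_⟩
  have hG : ∀ i j, ∑ l, K.val i l * Forms.qEnd hF (K.val j l) = h (b i) (b j) := fun i j => by
    exact congrFun (congrFun hK i) j
  conv_rhs => rw [← b.sum_repr x, ← b.sum_repr y]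
  simp only [map_sum, LinearMap.sum_apply, map_smulₛₗ, LinearMap.smul_apply, smul_eq_mul,
    RingHom.id_apply, ← hG, Finset.mul_sum]
  show ∑ l, (M *ᵥ b.equivFun y) l * (M *ᵥ b.equivFun x) l ^ q = _
  simp only [← Forms.qEnd_apply hF, Matrix.mulVec, dotProduct, map_sum, map_mul,
    Finset.sum_mul, Finset.mul_sum, hM, Matrix.transpose_apply, Matrix.map_apply,
    Module.Basis.equivFun_apply]
  rw [Finset.sum_comm]
  conv_rhs => rw [Finset.sum_comm]
  refine Finset.sum_congr rfl fun j _ => ?_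
  rw [Finset.sum_comm]
  refine Finset.sum_congr rfl fun i _ => Finset.sum_congr rfl fun l _ => ?_
  have e : ∀ a : F, Fusion.HermBlocks.qAut hF a = Forms.qEnd hF a := fun a => rfl
  rw [e, e, Forms.qEnd_qEnd hF]
  ring

omit hF in
/-- A unipotent with one line of fixed vectors is regular. -/
theorem shift_pow_ne_zero {V : Type*} [AddCommGroup V] [Module F V] [FiniteDimensional F V]
    {σ : F →+* F} {h : V →ₛₗ[σ] V →ₗ[F] F} {u : UH h} {m : ℕ} (hm : m < Module.finrank F V)
    (e : V) (hfix : ∀ x, u • x = x → ∃ c : F, x = c • e) : shift u ^ m ≠ 0 := by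
  have hker : ∀ i, Module.finrank F (LinearMap.ker (shift u ^ i)) ≤ i := by
    intro i
    induction i with
    | zero => simp [LinearMap.ker_eq_bot.2, Function.injective_id, pow_zero, Module.End.one_eq_id]
    | succ i ih =>
      let f : LinearMap.ker (shift u ^ (i + 1)) →ₗ[F] LinearMap.ker (shift u ^ i) :=
        LinearMap.restrict (shift u) fun x hx => by
          rw [LinearMap.mem_ker, ← Module.End.mul_apply, ← pow_succ]
          exact LinearMap.mem_ker.1 hx
      have h1 := f.finrank_range_add_finrank_ker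
      have h2 := Submodule.finrank_le (LinearMap.range f)
      have h3 : Module.finrank F (LinearMap.ker f) ≤ 1 := by
        have hle : (LinearMap.ker f).map (Submodule.subtype _) ≤ Submodule.span F {e} := by
          rintro _ ⟨x, hx, rfl⟩
          have hx' := congrArg Subtype.val (LinearMap.mem_ker.1 hx)
          change u • (x : V) - (x : V) = 0 at hx'
          rw [sub_eq_zero] at hx'
          obtain ⟨c, hc⟩ := hfix _ hx'
          exact Submodule.mem_span_singleton.2 ⟨c, hc.symm⟩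
        have h4 := Submodule.finrank_mono hle
        rw [Submodule.finrank_map_subtype_eq] at h4
        exact h4.trans ((finrank_span_le_card {e}).trans (by simp))
      omega
  intro h0
  have := hker m
  rw [h0, LinearMap.ker_zero, finrank_top] at this
  omega

/-- `Cfsg.SU` acting on a coordinate model. -/
theorem exists_model_hom {V : Type*} [AddCommGroup V] [Module F V] [FiniteDimensional F V]
    {n : ℕ} (hn : Module.finrank F V = n) {h : V →ₛₗ[Forms.qEnd hF] V →ₗ[F] F}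
    (hh : IsUnitaryForm (Forms.qEnd hF) h) :
    ∃ ψ : Cfsg.SU n F q →* UH h, Function.Injective ψ ∧ (∀ s, ψ s ∈ SUH h) ∧
      (∀ a ∈ SUH h, ∃ s, ψ s = a) ∧ ∀ (s : Cfsg.SU n F q) (i : ℕ),
        (((s : Matrix.SpecialLinearGroup (Fin n) F) : Matrix (Fin n) (Fin n) F) - 1) ^ i = 0 ↔
          shift (ψ s) ^ i = 0 := by
  obtain ⟨Φ, hΦ⟩ := exists_isometry hF hn hh
  -- elements of `SU` acting on the model
  let T : Cfsg.SU n F q → V →ₗ[F] V := fun s =>
    Φ.symm.toLinearMap ∘ₗ Matrix.toLin' s.1.1 ∘ₗ Φ.toLinearMap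
  have hT : ∀ s x, T s x = Φ.symm (s.1.1 *ᵥ Φ x) := fun s x => rfl
  have hTh : ∀ s x y, h (T s x) (T s y) = h x y := fun s x y => by
    rw [hT, hT, ← hΦ, Φ.apply_symm_apply, Φ.apply_symm_apply, (mem_SU_iff hF s.1).1 s.2, hΦ]
  let ψ : Cfsg.SU n F q →* UH h :=
    { toFun := fun s => uMk hh (T s) (hTh s)
      map_one' := UH.ext' fun x => by
        rw [uMk_smul, hT, one_smul]
        exact (congrArg Φ.symm (Matrix.one_mulVec _)).trans (Φ.symm_apply_apply x)
      map_mul' := fun a b => UH.ext' fun x => by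
        rw [mul_smul, uMk_smul, uMk_smul, uMk_smul, hT, hT, hT, Φ.apply_symm_apply]
        exact congrArg Φ.symm (Matrix.mulVec_mulVec _ a.1.1 b.1.1).symm }
  have hψ : ∀ s x, Φ (ψ s • x) = s.1.1 *ᵥ Φ x := fun s x => Φ.apply_symm_apply _
  have hinj : Function.Injective ψ := by
    intro a b e
    refine Subtype.ext (Subtype.ext (Matrix.toLin'.injective (LinearMap.ext fun y => ?_)))
    obtain ⟨x, rfl⟩ := Φ.surjective y
    rw [Matrix.toLin'_apply, Matrix.toLin'_apply, ← hψ, ← hψ, e]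
  have hdet : ∀ s, ψ s ∈ SUH h := fun s => by
    rw [mem_SUH]
    show LinearMap.det (T s) = 1
    have := LinearMap.det_conj (Matrix.toLin' s.1.1) Φ.symm
    rw [LinearEquiv.symm_symm] at this
    rw [this, LinearMap.det_toLin', s.1.2]
  have hsurj : ∀ a ∈ SUH h, ∃ s, ψ s = a := by
    intro a ha
    let A := LinearMap.toMatrix' (Φ.toLinearMap ∘ₗ
      ((a : V ≃ₗ[F] V) : V →ₗ[F] V) ∘ₗ Φ.symm.toLinearMap)
    have hA : ∀ y, A *ᵥ y = Φ (a • Φ.symm y) := fun y => by
      rw [← Matrix.toLin'_apply, Matrix.toLin'_toMatrix']; rfl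
    have hAdet : A.det = 1 := by
      rw [LinearMap.det_toMatrix', LinearMap.det_conj, mem_SUH.1 ha]
    refine ⟨⟨⟨A, hAdet⟩, (mem_SU_iff hF _).2 fun x y => ?_⟩, UH.ext' fun x => Φ.injective ?_⟩
    · show Forms.hermB hF n (A *ᵥ x) (A *ᵥ y) = _
      rw [hA, hA, hΦ, uh_smul_smul, ← hΦ, Φ.apply_symm_apply, Φ.apply_symm_apply]
    · rw [hψ]
      show A *ᵥ Φ x = _
      rw [hA, Φ.symm_apply_apply]
  refine ⟨ψ, hinj, hdet, hsurj, fun s i => ?_⟩
  set A : Matrix (Fin n) (Fin n) F := s.1.1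
  have hpow : ∀ (i : ℕ) x, ((A - 1) ^ i) *ᵥ Φ x = Φ ((shift (ψ s) ^ i) x) := by
    intro i
    induction i with
    | zero => simp
    | succ i ih =>
      intro x
      rw [pow_succ', pow_succ', ← Matrix.mulVec_mulVec, ih, Module.End.mul_apply, shift_apply,
        map_sub, Matrix.sub_mulVec, Matrix.one_mulVec, hψ]
  refine ⟨fun e => LinearMap.ext fun x => Φ.injective ?_, fun e => ?_⟩
  · rw [← hpow, e]
    simp
  · refine Matrix.toLin'.injective (LinearMap.ext fun y => ?_)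
    obtain ⟨x, rfl⟩ := Φ.surjective y
    rw [Matrix.toLin'_apply, hpow, e]
    simp

/-- The statement for `Cfsg.SU` from a coordinate model. -/
theorem exists_of_model {V : Type*} [AddCommGroup V] [Module F V] [FiniteDimensional F V]
    {n : ℕ} (hn : Module.finrank F V = n) {h : V →ₛₗ[Forms.qEnd hF] V →ₗ[F] F}
    (hh : IsUnitaryForm (Forms.qEnd hF) h) {u g g' : UH h} (hu : u ∈ SUH h)
    (hnil : shift u ^ n = 0) (hreg : shift u ^ (n - 1) ≠ 0) (hg : g ∈ SUH h) (hg' : g' ∈ SUH h)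
    (hgen : SUH h ≤ Subgroup.closure ({u, g * u * g⁻¹, g' * u * g'⁻¹} : Set (UH h))) :
    ∃ u g h : ↥(Cfsg.SU n F q),
      (IsNilpotent (((u : Matrix.SpecialLinearGroup (Fin n) F) : Matrix (Fin n) (Fin n) F) - 1) ∧
        (((u : Matrix.SpecialLinearGroup (Fin n) F) : Matrix (Fin n) (Fin n) F) - 1) ^ (n - 1) ≠ 0) ∧
      Subgroup.closure ({u, g * u * g⁻¹, h * u * h⁻¹} : Set ↥(Cfsg.SU n F q)) = ⊤ := by
  obtain ⟨ψ, hinj, hdet, hsurj, hpow⟩ := exists_model_hom hF hn hh
  obtain ⟨s, hs⟩ := hsurj u hu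
  obtain ⟨t, ht⟩ := hsurj g hg
  obtain ⟨t', ht'⟩ := hsurj g' hg'
  refine ⟨s, t, t', ⟨⟨n, (hpow s n).2 (hs.symm ▸ hnil)⟩,
    fun e => hreg (hs ▸ (hpow s (n - 1)).1 e)⟩, ?_⟩
  rw [eq_top_iff]
  intro x _
  have hmem := hgen (hdet x)
  rw [← hs, ← ht, ← ht', ← map_inv, ← map_inv, ← map_mul, ← map_mul, ← map_mul, ← map_mul,
    show ({ψ s, ψ (t * s * t⁻¹), ψ (t' * s * t'⁻¹)} : Set (UH h)) =
      ψ '' {s, t * s * t⁻¹, t' * s * t'⁻¹} by simp [Set.image_insert_eq],
    ← MonoidHom.map_closure] at hmem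
  obtain ⟨y, hy, hyx⟩ := hmem
  rwa [← hinj hyx]

/-- The statement with two conjugates from a coordinate model. -/
theorem exists_of_model_two {V : Type*} [AddCommGroup V] [Module F V] [FiniteDimensional F V]
    {n : ℕ} (hn : Module.finrank F V = n) {h : V →ₛₗ[Forms.qEnd hF] V →ₗ[F] F}
    (hh : IsUnitaryForm (Forms.qEnd hF) h) {u g : UH h} (hu : u ∈ SUH h)
    (hnil : shift u ^ n = 0) (hreg : shift u ^ (n - 1) ≠ 0) (hg : g ∈ SUH h)
    (hgen : SUH h ≤ Subgroup.closure ({u, g * u * g⁻¹} : Set (UH h))) :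
    ∃ u g : ↥(Cfsg.SU n F q),
      (IsNilpotent (((u : Matrix.SpecialLinearGroup (Fin n) F) : Matrix (Fin n) (Fin n) F) - 1) ∧
        (((u : Matrix.SpecialLinearGroup (Fin n) F) : Matrix (Fin n) (Fin n) F) - 1) ^ (n - 1) ≠ 0) ∧
      Subgroup.closure ({u, g * u * g⁻¹} : Set ↥(Cfsg.SU n F q)) = ⊤ := by
  obtain ⟨ψ, hinj, hdet, hsurj, hpow⟩ := exists_model_hom hF hn hh
  obtain ⟨s, hs⟩ := hsurj u hu
  obtain ⟨t, ht⟩ := hsurj g hg
  refine ⟨s, t, ⟨⟨n, (hpow s n).2 (hs.symm ▸ hnil)⟩,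
    fun e => hreg (hs ▸ (hpow s (n - 1)).1 e)⟩, ?_⟩
  rw [eq_top_iff]
  intro x _
  have hmem := hgen (hdet x)
  rw [← hs, ← ht, ← map_inv, ← map_mul, ← map_mul,
    show ({ψ s, ψ (t * s * t⁻¹)} : Set (UH h)) = ψ '' {s, t * s * t⁻¹} by
      simp [Set.image_insert_eq],
    ← MonoidHom.map_closure] at hmem
  obtain ⟨y, hy, hyx⟩ := hmem
  rwa [← hinj hyx]

/-- Two conjugates in dimension three. -/
theorem exists_three (hq : 3 ≤ q) :
    ∃ (u g : UH (Dim3.form3 (Forms.qEnd hF))), u ∈ SUH _ ∧ g ∈ SUH _ ∧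
      shift u ^ 3 = 0 ∧ shift u ^ 2 ≠ 0 ∧ IsUnitaryForm (Forms.qEnd hF) (Dim3.form3 (Forms.qEnd hF)) ∧
      SUH (Dim3.form3 (Forms.qEnd hF)) ≤ Subgroup.closure ({u, g * u * g⁻¹} : Set _) := by
  have hh := Dim3.form3_isUnitary (σ := Forms.qEnd hF) (Forms.qEnd_qEnd hF)
    (hermB_isUnitary hF (n := 3)).ne_id
  have hfr : Module.finrank F (Fin 3 → F) = 3 := Module.finrank_fin_fun F
  have hperf : commutator (SUH (Dim3.form3 (Forms.qEnd hF))) = ⊤ :=
    SUH_perfect hh hfr.ge (Or.inr (exists_l_pow_four hF (by omega)))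
  obtain ⟨d, hd, g, hg, hgen⟩ :=
    Dim3.generators_three hh (Forms.qEnd_apply hF) (by omega) hF hperf
  have hv : ∀ x : Fin 3 → F, x = ![x 0, x 1, x 2] := fun x => by
    funext i; fin_cases i <;> rfl
  have hs : ∀ x, shift (Dim3.upper hh hd) x = ![-(x 1) + d * x 2, x 2, 0] := fun x => by
    rw [shift_apply, hv x, Dim3.upper_smul]
    funext i
    fin_cases i <;> simp <;> ring
  refine ⟨_, g, Dim3.upper_mem hh hd, hg, ?_, ?_, hh, hgen⟩
  · refine LinearMap.ext fun x => ?_
    simp only [pow_succ, pow_zero, one_mul, Module.End.mul_apply, hs]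
    funext i
    fin_cases i <;> simp
  · intro e
    have := congrArg (fun f : Module.End F (Fin 3 → F) => f ![0, 0, 1] 0) e
    rw [pow_two] at this
    simp [Module.End.mul_apply, hs] at this

/-- Three conjugates in dimension at least five. -/
theorem exists_five_up (k : ℕ) :
    ∃ (u g g' : UH (coForm k (Forms.qEnd hF))), u ∈ SUH _ ∧ g ∈ SUH _ ∧ g' ∈ SUH _ ∧
      shift u ^ (2 * k + 5) = 0 ∧ shift u ^ (2 * k + 4) ≠ 0 ∧
      IsUnitaryForm (Forms.qEnd hF) (coForm k (Forms.qEnd hF)) ∧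
      SUH (coForm k (Forms.qEnd hF)) ≤
        Subgroup.closure ({u, g * u * g⁻¹, g' * u * g'⁻¹} : Set _) := by
  have hh := coForm_isUnitary (k := k) (σ := Forms.qEnd hF) (Forms.qEnd_qEnd hF)
    (hermB_isUnitary hF (n := 3)).ne_id
  obtain ⟨d0, hd0⟩ := hh.exists_trace_one
  have hd : -d0 + Forms.qEnd hF (-d0) = -1 := by rw [map_neg, ← neg_add, hd0]
  have hperf : commutator (SUH (coForm k (Forms.qEnd hF))) = ⊤ :=
    SUH_perfect hh (by rw [finrank_co]; omega) (Or.inl (by rw [finrank_co]; omega))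
  have hq1 := Forms.one_lt_q hF
  have hflag : reg hh hd ∈ flagGroup k (Forms.qEnd hF) := reg_flag hh hd
  have hnil := shift_pow_eq_zero hflag
  have hne : shift (reg hh hd) ^ (2 * k + 4) ≠ 0 :=
    shift_pow_ne_zero (by rw [finrank_co]; omega) _ (reg_fixed hh hd)
  rcases Nat.lt_or_ge q 3 with h2 | h3
  · have hq : q = 2 := by omega
    have h4 : ((4 : ℕ) : F) = 0 := by
      rw [show 4 = Fintype.card F by rw [hF, hq]; rfl]; exact Nat.cast_card_eq_zero F
    obtain ⟨g, g', hg, hg', hgen⟩ := generators_two hh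
      (mul_self_eq_zero.1 (by push_cast at h4; linear_combination h4))
      (fun x hx => by
        rw [Forms.qEnd_apply, hq] at hx
        rcases mul_eq_zero.1 (show x * (x - 1) = 0 by linear_combination hx) with e | e
        · exact Or.inl e
        · exact Or.inr (sub_eq_zero.1 e)) hd hperf
    exact ⟨_, g, g', flagGroup_le_SUH hflag, hg, hg', hnil, hne, hh, hgen⟩
  · obtain ⟨z, hz⟩ := Dim3.exists_orderOf (F := F) (n := q - 1) (by
      rw [hF]; exact ⟨q + 1, by rw [mul_comm, ← Nat.sq_sub_sq, one_pow]⟩)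
    have hz1 : z ≠ 1 := fun e => by rw [e, orderOf_one] at hz; omega
    have hzq : z ^ (q - 1) = 1 := hz ▸ pow_orderOf_eq_one z
    have hz0 : z ≠ 0 := fun e => by
      rw [e, zero_pow (by omega)] at hzq; exact zero_ne_one hzq
    have hzfix : Forms.qEnd hF z = z := by
      rw [Forms.qEnd_apply, show q = q - 1 + 1 by omega, pow_succ, hzq, one_mul]
    obtain ⟨g, g', hg, hg', hgen⟩ := generators_big hh (fun c => by
      by_cases hc : c = 1
      · exact ⟨z, hzfix, hz0, fun e => hz1 (e.trans hc)⟩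
      · exact ⟨1, map_one _, one_ne_zero, fun e => hc e.symm⟩) hperf hd
    exact ⟨_, g, g', flagGroup_le_SUH hflag, hg, hg', hnil, hne, hh, hgen⟩

end Cfsg.Agent.SUGen
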