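import Cfsg.Agent.Lib.ClassicalSimple.UnitarySimple

/-!
A bound for the centraliser of a regular unipotent isometry of a hermitian form.
-/

set_option autoImplicit false

namespace Cfsg.Agent.SUGen

open Cfsg.Agent.ClassicalSimple

variable {F V : Type*} [Field F] [AddCommGroup V] [Module F V]
variable {σ : F →+* F} {h : V →ₛₗ[σ] V →ₗ[F] F}

/-- `u - 1` as an endomorphism. -/
noncomputable def shift (u : UH h) : Module.End F V :=
  ((u : V ≃ₗ[F] V) : V →ₗ[F] V) - 1

theorem shift_apply (u : UH h) (x : V) : shift u x = u • x - x := rfl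

theorem smul_shift_pow {u g : UH h} (hg : g * u = u * g) (i : ℕ) (x : V) :
    g • ((shift u ^ i) x) = (shift u ^ i) (g • x) := by
  induction i generalizing x with
  | zero => simp
  | succ i ih =>
    rw [pow_succ, Module.End.mul_apply, Module.End.mul_apply, ih, shift_apply, shift_apply,
      smul_sub, ← mul_smul, hg, mul_smul]

theorem shift_pow_mul (u : UH h) (a b : ℕ) (x : V) :
    (shift u ^ a) ((shift u ^ b) x) = (shift u ^ (a + b)) x := by
  rw [pow_add, Module.End.mul_apply]

variable (hh : IsUnitaryForm σ h)
include hh

variable [FiniteDimensional F V]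

/-- The centraliser of a regular unipotent in a group fixing its fixed vectors is small. -/
theorem card_centralizer_le [Finite F] (u : UH h) {m : ℕ} (hm : Module.finrank F V = m + 1)
    (hN : shift u ^ (m + 1) = 0) (hx0 : ∃ x : V, (shift u ^ m) x ≠ 0) (U : Subgroup (UH h))
    (hU : ∀ g ∈ U, ∀ x : V, shift u x = 0 → g • x = x) :
    Nat.card {g : UH h // g ∈ U ∧ g * u = u * g} ≤ Nat.card {x : F // σ x = x} ^ m := by
  classical
  obtain ⟨x0, hx0⟩ := hx0
  set T := shift u with hT
  have hTm : ∀ z, T ((T ^ m) z) = 0 := fun z => by
    rw [← Module.End.mul_apply, ← pow_succ', hN, LinearMap.zero_apply]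
  have hTbig : ∀ a z, m + 1 ≤ a → (T ^ a) z = 0 := fun a z ha => by
    rw [show a = (m + 1) + (a - (m + 1)) by omega, pow_add, hN, zero_mul, LinearMap.zero_apply]
  -- the basis
  have hli : LinearIndependent F fun i : Fin (m + 1) => (T ^ i.1) x0 := by
    rw [Fintype.linearIndependent_iff]
    intro g hg
    have key : ∀ (j : ℕ) (hj : j < m + 1), g ⟨j, hj⟩ = 0 := by
      intro j
      induction j using Nat.strong_induction_on with
      | _ j ih =>
        intro hj
        have e := congrArg (T ^ (m - j)) hg
        rw [map_sum, map_zero, Finset.sum_eq_single (⟨j, hj⟩ : Fin (m + 1))] at e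
        · rw [map_smul, shift_pow_mul, show m - j + j = m by omega, smul_eq_zero] at e
          exact e.resolve_right hx0
        · intro i _ hi
          rcases Nat.lt_or_ge i.1 j with hlt | hge
          · rw [ih i.1 hlt i.2, zero_smul, map_zero]
          · have : i.1 ≠ j := fun e' => hi (Fin.ext e')
            rw [map_smul, shift_pow_mul, hTbig _ _ (by omega), smul_zero]
        · simp
    exact fun i => key i.1 i.2
  let bas := basisOfLinearIndependentOfCardEqFinrank hli (by simp [hm])
  have hbas : ∀ i, bas i = (T ^ i.1) x0 := fun i => by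
    simp [bas, coe_basisOfLinearIndependentOfCardEqFinrank]
  let co : V → ℕ → F := fun y i => if hi : i < m + 1 then bas.repr y ⟨i, hi⟩ else 0
  have hco : ∀ y, y = ∑ i ∈ Finset.range (m + 1), co y i • (T ^ i) x0 := fun y => by
    rw [Finset.sum_range]
    conv_lhs => rw [← bas.sum_repr y]
    exact Finset.sum_congr rfl fun i _ => by simp only [co, dif_pos i.2, hbas, Fin.eta]
  -- adjointness
  have hstep : ∀ y z : V, h (T y) z = -h y (u⁻¹ • T z) := fun y z => by
    have e1 : h (u • y) z = h y (u⁻¹ • z) := by
      conv_lhs => rw [← smul_inv_smul u z]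
      exact uh_smul_smul u _ _
    simp only [hT, shift_apply, map_sub, LinearMap.sub_apply, e1, smul_sub, inv_smul_smul]
    ring
  have hcomm : ∀ i z, u⁻¹ • (T ^ i) z = (T ^ i) (u⁻¹ • z) := fun i z =>
    smul_shift_pow (by group) i z
  have hA : ∀ (a b : ℕ) (y z : V), m + 1 ≤ a + b → h ((T ^ a) y) ((T ^ b) z) = 0 := by
    intro a
    induction a with
    | zero => intro b y z hab; rw [hTbig b z (by omega), map_zero]
    | succ a ih =>
      intro b y z hab
      rw [pow_succ', Module.End.mul_apply, hstep, ← Module.End.mul_apply, ← pow_succ', hcomm,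
        ih _ _ _ (by omega), neg_zero]
  have hB : ∀ (a b : ℕ) (y z : V), a + b = m →
      h ((T ^ a) y) ((T ^ b) z) = (-1) ^ a * h y ((T ^ m) z) := by
    intro a
    induction a with
    | zero => intro b y z hab; obtain rfl : b = m := by omega
              simp
    | succ a ih =>
      intro b y z hab
      rw [pow_succ', Module.End.mul_apply, hstep, ← Module.End.mul_apply, ← pow_succ', hcomm,
        ih _ _ _ (by omega), ← hcomm]
      have : u⁻¹ • (T ^ m) z = (T ^ m) z := by
        rw [inv_smul_eq_iff]
        have := hTm z
        rw [hT, shift_apply, sub_eq_zero] at this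
        exact this.symm
      rw [this, pow_succ']
      ring
  set η := h x0 ((T ^ m) x0) with hη
  have hη0 : η ≠ 0 := fun e => hx0 (hh.sep _ fun y => hh.comm_zero (by
    rw [hco y, map_sum, LinearMap.sum_apply]
    refine Finset.sum_eq_zero fun i _ => ?_
    rw [map_smulₛₗ, LinearMap.smul_apply]
    rcases Nat.eq_zero_or_pos i with rfl | hi
    · simp [← hη, e]
    · rw [hA i m _ _ (by omega), smul_zero]))
  obtain ⟨dt, hdt⟩ := hh.exists_trace_one
  obtain ⟨θ, hθ, hθs⟩ := hh.exists_skew
  let pr : ℕ → F → {x : F // σ x = x} := fun j x =>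
    if Even j then ⟨dt * (x / θ) + σ (dt * (x / θ)), by simp [map_add, hh.invol, add_comm]⟩
    else ⟨dt * x + σ (dt * x), by simp [map_add, hh.invol, add_comm]⟩
  have hpr : ∀ j x y, pr j x = pr j y → σ (x - y) * (-1) ^ j + (x - y) = 0 → x = y := by
    intro j x y e hline
    rw [← sub_eq_zero]
    by_cases hj : Even j
    · rw [hj.neg_one_pow, mul_one] at hline
      simp only [pr, if_pos hj, Subtype.mk.injEq, map_mul, map_div₀] at e
      have hσθ : σ θ = -θ := eq_neg_of_add_eq_zero_right hθs
      have hσxy : σ x - σ y = -(x - y) := by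
        rw [← map_sub]; exact eq_neg_of_add_eq_zero_left hline
      rw [hσθ] at e
      have : (dt + σ dt) * ((x - y) / θ) = 0 := by
        linear_combination e + (σ dt / θ) * hσxy
      rw [hdt, one_mul, div_eq_zero_iff, or_iff_left hθ] at this
      exact this
    · rw [(Nat.not_even_iff_odd.1 hj).neg_one_pow] at hline
      simp only [pr, if_neg hj, Subtype.mk.injEq, map_mul] at e
      have hσxy : σ x - σ y = x - y := by rw [← map_sub]; linear_combination -hline
      have : (dt + σ dt) * (x - y) = 0 := by
        linear_combination e - σ dt * hσxy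
      rwa [hdt, one_mul] at this
  let f : {g : UH h // g ∈ U ∧ g * u = u * g} → (Fin m → {x : F // σ x = x}) :=
    fun g j => pr (j.1 + 1) (co (g.1 • x0) (j.1 + 1))
  have hinj : Function.Injective f := by
    rintro ⟨g, hgU, hgu⟩ ⟨g', hgU', hgu'⟩ e
    -- the leading coefficient
    have hform : ∀ g : UH h, g ∈ U → g * u = u * g → co (g • x0) 0 = 1 ∧
        ∃ r, g • x0 = x0 + T r := by
      intro g hgU hgu
      set r := ∑ i ∈ Finset.range m, co (g • x0) (i + 1) • (T ^ i) x0 with hr
      have e1 : g • x0 = co (g • x0) 0 • x0 + T r := by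
        conv_lhs => rw [hco (g • x0), Finset.sum_range_succ']
        rw [hr, map_sum, pow_zero, Module.End.one_apply, add_comm]
        congr 1
        exact Finset.sum_congr rfl fun i _ => by
          rw [map_smul, pow_succ', Module.End.mul_apply]
      have e2 : g • (T ^ m) x0 = (T ^ m) x0 := hU g hgU _ (hTm x0)
      rw [smul_shift_pow hgu, e1, map_add, map_smul] at e2
      rw [← Module.End.mul_apply (T ^ m) T, ← pow_succ, hTbig _ r le_rfl, add_zero] at e2
      have h1 : co (g • x0) 0 = 1 := by
        have := sub_eq_zero.2 e2
        nth_rw 2 [← one_smul F ((T ^ m) x0)] at this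
        rw [← sub_smul, smul_eq_zero, sub_eq_zero] at this
        exact this.resolve_right hx0
      exact ⟨h1, r, by rw [h1, one_smul] at e1; exact e1⟩
    obtain ⟨h0, r, hr⟩ := hform g hgU hgu
    obtain ⟨h0', r', hr'⟩ := hform g' hgU' hgu'
    have hcoef : ∀ j, j < m + 1 → co (g • x0) j = co (g' • x0) j := by
      intro j
      induction j using Nat.strong_induction_on with
      | _ j ih =>
        intro hj
        rcases Nat.eq_zero_or_pos j with rfl | hjpos
        · rw [h0, h0']
        set c := fun i => co (g • x0) i - co (g' • x0) i with hc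
        -- the difference lies in the image of `T ^ j`
        set rest := ∑ i ∈ Finset.range (m - j), c (j + 1 + i) • (T ^ i) x0 with hrest
        have hD : g • x0 - g' • x0 = c j • (T ^ j) x0 + (T ^ (j + 1)) rest := by
          conv_lhs => rw [hco (g • x0), hco (g' • x0), ← Finset.sum_sub_distrib]
          simp only [← sub_smul]
          rw [show m + 1 = j + 1 + (m - j) by omega, Finset.sum_range_add, Finset.sum_range_succ,
            Finset.sum_eq_zero (s := Finset.range j) (fun i hi => by
              rw [ih i (Finset.mem_range.1 hi) (by have := Finset.mem_range.1 hi; omega), sub_self,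
                zero_smul]), zero_add, hrest, map_sum]
          congr 1
          exact Finset.sum_congr rfl fun i _ => by rw [map_smul, shift_pow_mul]
        set D := g • x0 - g' • x0 with hDdef
        set i := m - j
        have e0 : h D ((T ^ i) (g • x0)) + h (g' • x0) ((T ^ i) D) = 0 := by
          rw [hDdef, map_sub (T ^ i), ← smul_shift_pow hgu, ← smul_shift_pow hgu']
          simp only [map_sub, LinearMap.sub_apply, uh_smul_smul]
          ring
        have e1 : h D ((T ^ i) (g • x0)) = σ (c j) * ((-1) ^ j * η) := by
          rw [hD, hr, map_add h, LinearMap.add_apply, hA (j + 1) i _ _ (by omega), add_zero,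
            map_smulₛₗ, LinearMap.smul_apply, map_add (T ^ i), map_add, smul_eq_mul,
            ← Module.End.mul_apply (T ^ i) T, ← pow_succ, hA j (i + 1) _ _ (by omega), add_zero,
            hB j i _ _ (by omega)]
        have e2 : h (g' • x0) ((T ^ i) D) = c j * η := by
          rw [hD, map_add (T ^ i), LinearMap.map_smul (T ^ i), shift_pow_mul, shift_pow_mul,
            hTbig (i + (j + 1)) _ (by omega), add_zero, show i + j = m by omega,
            LinearMap.map_smul (h (g' • x0)), hr',
            map_add, LinearMap.add_apply, smul_eq_mul]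
          have : h (T r') ((T ^ m) x0) = 0 := by
            have := hA 1 m r' x0 (by omega)
            rwa [pow_one] at this
          rw [this, add_zero]
        rw [e1, e2] at e0
        have e3 : (σ (c j) * (-1) ^ j + c j) * η = 0 := by linear_combination e0
        refine hpr j _ _ ?_ ((mul_eq_zero.1 e3).resolve_right hη0)
        have := congrFun e ⟨j - 1, by omega⟩
        simpa [f, show j - 1 + 1 = j by omega] using this
    have hx : g • x0 = g' • x0 := by
      rw [hco (g • x0), hco (g' • x0)]
      exact Finset.sum_congr rfl fun i hi => by rw [hcoef i (Finset.mem_range.1 hi)]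
    refine Subtype.ext (Subtype.ext (LinearEquiv.toLinearMap_injective (bas.ext fun i => ?_)))
    show g • bas i = g' • bas i
    rw [hbas, smul_shift_pow hgu, smul_shift_pow hgu', hx]
  refine (Nat.card_le_card_of_injective f hinj).trans ?_
  rw [Nat.card_fun, Nat.card_fin]

end Cfsg.Agent.SUGen
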