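import Cfsg.Agent.Lib.ClassicalSimple.UnitarySimple

/-!
Sets of isotropic vectors closed under the isotropic points of lines: transitivity of the moves,
growth of a full non-degenerate subspace.
-/

set_option autoImplicit false

namespace Cfsg.Agent.SUGen

open Cfsg.Agent.ClassicalSimple

variable {F V : Type*} [Field F] [AddCommGroup V] [Module F V]
variable {σ : F →+* F} {h : V →ₛₗ[σ] V →ₗ[F] F}

/-- A set of isotropic vectors, closed under scalars and under isotropic points of the lines
spanned by two non-orthogonal members. -/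
structure LineClosed (h : V →ₛₗ[σ] V →ₗ[F] F) (C : Set V) : Prop where
  iso : ∀ x ∈ C, h x x = 0
  smul : ∀ x ∈ C, ∀ a : F, a • x ∈ C
  line : ∀ x ∈ C, ∀ y ∈ C, h x y ≠ 0 → ∀ β : F, h (x + β • y) (x + β • y) = 0 → x + β • y ∈ C

variable (hh : IsUnitaryForm σ h)
include hh

theorem iso_add_smul {x y : V} (hx : h x x = 0) (hy : h y y = 0) {β : F}
    (e : β * h x y + σ (β * h x y) = 0) : h (x + β • y) (x + β • y) = 0 := by
  rw [map_mul] at e
  simp only [map_add, map_smulₛₗ, LinearMap.add_apply, LinearMap.smul_apply, smul_eq_mul,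
    RingHom.id_apply, hx, hy, hh.swap x y, mul_zero, add_zero, zero_add]
  linear_combination e

omit hh in
theorem form_smul_self (a : F) (x : V) : h (a • x) (a • x) = σ a * a * h x x := by
  simp only [map_smulₛₗ, LinearMap.smul_apply, smul_eq_mul, RingHom.id_apply]
  ring

variable {C : Set V} (hC : LineClosed h C)
include hC

/-- Moving a member by a transvection centred at another member. -/
theorem move_mem {d z : V} (hd : d ∈ C) (hz : z ∈ C) {θ : F} (hθ : θ + σ θ = 0) :
    z + (θ * h d z) • d ∈ C := by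
  by_cases e : h d z = 0
  · simpa [e] using hz
  refine hC.line z hz d hd (fun e' => e (hh.comm_zero e')) _
    (iso_add_smul hh (hC.iso z hz) (hC.iso d hd) ?_)
  rw [hh.swap d z, map_mul, map_mul, hh.invol]
  linear_combination (h d z * σ (h d z)) * hθ

/-- The plane case: coordinates in a hyperbolic pair of members. -/
theorem plane_move {e f g : V} (he : e ∈ C) (hf : f ∈ C) (hef : h e f = 1) (hge : h e g = 0)
    (hgf : h f g = 0) {α β α' β' : F}
    (hnorm : σ α' * β' + σ (σ α' * β') = σ α * β + σ (σ α * β))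
    (hne : σ α * β + σ (σ α * β) ≠ 0) (hz : α • e + β • f + g ∈ C) :
    α' • e + β' • f + g ∈ C := by
  have hee := hC.iso e he
  have hff := hC.iso f hf
  have hfe : h f e = 1 := by rw [hh.swap, hef, map_one]
  have mvE : ∀ {a b θ : F}, θ + σ θ = 0 → a • e + b • f + g ∈ C →
      (a + θ * b) • e + b • f + g ∈ C := fun {a b θ} hθ hm => by
    have := move_mem hh hC he hm hθ
    simp only [map_add, map_smul, smul_eq_mul, hee, hef, hge, mul_zero, zero_add, add_zero,
      mul_one] at this
    convert this using 1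
    module
  have mvF : ∀ {a b θ : F}, θ + σ θ = 0 → a • e + b • f + g ∈ C →
      a • e + (b + θ * a) • f + g ∈ C := fun {a b θ} hθ hm => by
    have := move_mem hh hC hf hm hθ
    simp only [map_add, map_smul, smul_eq_mul, hff, hfe, hgf, mul_zero, zero_add, add_zero,
      mul_one] at this
    convert this using 1
    module
  obtain ⟨θ0, hθ0, hθ0s⟩ := hh.exists_skew
  have hσθ0 : σ θ0 = -θ0 := eq_neg_of_add_eq_zero_right hθ0s
  have hne' : σ α' * β' + σ (σ α' * β') ≠ 0 := hnorm ▸ hne
  have hb' : β' ≠ 0 := fun e' => hne' (by simp [e'])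
  -- the last two steps, when the difference is in general position
  have fin : ∀ {a b : F}, σ a * b + σ (σ a * b) = σ α' * β' + σ (σ α' * β') →
      σ ((β' - b) / b) ≠ (β' - b) / b → a • e + b • f + g ∈ C → α' • e + β' • f + g ∈ C := by
    intro a b hab hX hm
    have hb : b ≠ 0 := fun e' => hne' (by rw [← hab]; simp [e'])
    have hτ : a / b + σ (a / b) ≠ 0 := by
      intro e'
      apply hne'
      rw [← hab, map_mul, hh.invol]
      rw [map_div₀] at e'
      have hσb : σ b ≠ 0 := (map_ne_zero σ).2 hb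
      field_simp at e'
      linear_combination e'
    set τ := a / b + σ (a / b)
    have hστ : σ τ = τ := by simp [τ, map_add, hh.invol]; ring
    set X := (β' - b) / b
    have hN : X - σ X ≠ 0 := sub_ne_zero.2 (Ne.symm hX)
    set θ2 := (X - σ X) / τ
    have hθ2 : θ2 + σ θ2 = 0 := by
      simp only [θ2, map_div₀, map_sub, hh.invol, hστ]
      ring
    have hθ2ne : θ2 ≠ 0 := div_ne_zero hN hτ
    have hσθ2 : σ θ2 = -θ2 := eq_neg_of_add_eq_zero_right hθ2
    set θ1 := X / θ2 - a / b with hθ1def
    have hθ1 : θ1 + σ θ1 = 0 := by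
      have e1 : (X - σ X) / θ2 = τ := by
        simp only [θ2]; field_simp
      rw [hθ1def, map_sub, map_div₀, hσθ2]
      simp only [τ, sub_div, map_div₀] at e1 ⊢
      clear_value θ2 X
      linear_combination e1
    have h1 := mvE hθ1 hm
    have h2 := mvF hθ2 h1
    have eb : b + θ2 * (a + θ1 * b) = β' := by
      rw [hθ1def]
      field_simp
      simp only [X]
      field_simp
      ring
    rw [eb] at h2
    have hnn : σ (a + θ1 * b) * β' + σ (σ (a + θ1 * b) * β') =
        σ α' * β' + σ (σ α' * β') := by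
      rw [← hab, ← eb]
      have hσ1 : σ θ1 = -θ1 := eq_neg_of_add_eq_zero_right hθ1
      simp only [map_add, map_mul, hh.invol, hσ1, hσθ2, map_neg]
      ring
    have hθ3 : (α' - (a + θ1 * b)) / β' + σ ((α' - (a + θ1 * b)) / β') = 0 := by
      have hσb : σ β' ≠ 0 := (map_ne_zero σ).2 hb'
      simp only [map_mul, hh.invol] at hnn
      rw [map_div₀, map_sub]
      field_simp
      linear_combination -hnn
    have h3 := mvE hθ3 h2
    rwa [div_mul_cancel₀ _ hb', add_sub_cancel] at h3
  by_cases hX : σ ((β' - β) / β) = (β' - β) / β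
  swap
  · exact fin hnorm.symm hX hz
  have hb : β ≠ 0 := fun e' => hne (by simp [e'])
  have ha : α ≠ 0 := fun e' => hne (by simp [e'])
  refine fin (a := α) (b := β + θ0 * α) ?_ ?_ (mvF hθ0s hz)
  · rw [hnorm]
    simp only [map_mul, map_add, hh.invol, hσθ0]
    ring
  · intro hX'
    have hb2 : β + θ0 * α ≠ 0 := by
      intro e'
      apply hne
      have eβ : β = -(θ0 * α) := eq_neg_of_add_eq_zero_left e'
      simp only [eβ, map_mul, map_neg, hh.invol, hσθ0]
      ring
    set X := (β' - β) / β
    set X' := (β' - (β + θ0 * α)) / (β + θ0 * α)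
    have eX : X * β = β' - β := div_mul_cancel₀ _ hb
    have eX' : X' * (β + θ0 * α) = β' - (β + θ0 * α) := div_mul_cancel₀ _ hb2
    have rel : (X - X') * β = (1 + X') * (θ0 * α) := by linear_combination eX - eX'
    by_cases h1 : 1 + X' = 0
    · rw [eq_neg_of_add_eq_zero_right h1] at eX'
      exact hb' (by linear_combination -eX')
    · set k := (X - X') / (1 + X')
      have hk : σ k = k := by simp only [k, map_div₀, map_sub, map_add, map_one, hX, hX']
      have ek : k * β = θ0 * α := by
        simp only [k]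
        rw [div_mul_eq_mul_div, rel, mul_div_assoc, mul_div_cancel₀]
        exact h1
      apply hne
      have eσ := congrArg σ ek
      rw [map_mul, map_mul, hk, hσθ0] at eσ
      rw [map_mul, hh.invol]
      refine (mul_eq_zero.1 (show θ0 * (σ α * β + α * σ β) = 0 from ?_)).resolve_left hθ0
      linear_combination β * eσ - σ β * ek

omit hh in
/-- All isotropic vectors of the line of two non-orthogonal members belong. -/
theorem line_iso_mem {x y : V} (hx : x ∈ C) (hy : y ∈ C) (hxy : h x y ≠ 0) (a b : F)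
    (e : h (a • x + b • y) (a • x + b • y) = 0) : a • x + b • y ∈ C := by
  by_cases ha : a = 0
  · subst ha; simpa using hC.smul y hy b
  have e1 : a • x + b • y = a • (x + (b / a) • y) := by
    rw [smul_add, smul_smul, mul_div_cancel₀ _ ha]
  rw [e1] at e ⊢
  refine hC.smul _ (hC.line x hx y hy hxy _ ?_) a
  rw [form_smul_self, mul_eq_zero,
    or_iff_right (mul_ne_zero ((map_ne_zero σ).2 ha) ha)] at e
  exact e

omit hh hC in
/-- The hypothesis that moves act transitively on a norm sphere of `W`. -/
def SphereTrans (C : Set V) (h : V →ₛₗ[σ] V →ₗ[F] F) (W : Submodule F V) : Prop :=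
  ∀ a b : V, a ∈ W → b ∈ W → h a a ≠ 0 → h b b = h a a →
    ∀ g : V, (∀ x ∈ W, h x g = 0) → a + g ∈ C → b + g ∈ C

theorem sphereTrans_plane {x y : V} (hx : x ∈ C) (hy : y ∈ C) (hxy : h x y ≠ 0) :
    SphereTrans C h (Submodule.span F {x, y}) := by
  intro a b ha hb hne hab g hg hag
  obtain ⟨s, t, rfl⟩ := Submodule.mem_span_pair.1 ha
  obtain ⟨s', t', rfl⟩ := Submodule.mem_span_pair.1 hb
  set f := (h x y)⁻¹ • y with hf
  have hfC : f ∈ C := hC.smul y hy _
  have hxf : h x f = 1 := by simp [hf, hxy]
  have hgx : h x g = 0 := hg x (Submodule.subset_span (by simp))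
  have hgf : h f g = 0 := hg f (Submodule.smul_mem _ _ (Submodule.subset_span (by simp)))
  have conv : ∀ c : F, c • y = (c * h x y) • f := fun c => by
    rw [hf, smul_smul, mul_assoc, mul_inv_cancel₀ hxy, mul_one]
  have nrm : ∀ α β : F, h (α • x + β • f) (α • x + β • f) = σ α * β + σ (σ α * β) := fun α β => by
    have hfx : h f x = 1 := by rw [hh.swap, hxf, map_one]
    simp only [map_add, map_smulₛₗ, LinearMap.add_apply, LinearMap.smul_apply, smul_eq_mul,
      RingHom.id_apply, hC.iso x hx, hC.iso f hfC, hxf, hfx, map_mul, hh.invol]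
    ring
  rw [conv t] at hne hab hag
  rw [conv t'] at hab ⊢
  rw [nrm] at hne hab
  rw [nrm] at hab
  exact plane_move hh hC hx hfC hxf hgx hgf hab hne hag

omit hC in
/-- The restricted form of a non-degenerate subspace. -/
theorem restrict_isUnitary {W : Submodule F V} (hW : ∀ x ∈ W, (∀ y ∈ W, h x y = 0) → x = 0) :
    IsUnitaryForm σ ((h.comp W.subtype).compl₂ W.subtype) :=
  ⟨fun x y => hh.swap x.1 y.1, hh.invol, hh.ne_id,
    fun x hx => Subtype.ext (hW x.1 x.2 fun y hy => hx ⟨y, hy⟩)⟩

omit hC in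
/-- Orthogonal decomposition along a non-degenerate subspace. -/
theorem exists_proj [FiniteDimensional F V] {W : Submodule F V}
    (hW : ∀ x ∈ W, (∀ y ∈ W, h x y = 0) → x = 0) (z : V) :
    ∃ p ∈ W, ∀ y ∈ W, h y (z - p) = 0 := by
  have hp := restrict_isUnitary hh hW
  obtain ⟨p, hp⟩ := Forms.IsHermitianPolar.exists_eq (σ := σ) (ε := 1)
    (B := (h.comp W.subtype).compl₂ W.subtype)
    ⟨fun x y => by rw [hp.swap, one_mul], fun x => by
      obtain ⟨d, hd⟩ := hh.exists_trace_one
      exact ⟨d * h x.1 x.1, by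
        show h x.1 x.1 = d * h x.1 x.1 + 1 * σ (d * h x.1 x.1)
        rw [one_mul, map_mul, hh.σ_self]; linear_combination -(h x.1 x.1) * hd⟩,
      hh.invol, by rw [map_one, one_mul], hp.sep⟩ ((h z).comp W.subtype)
  refine ⟨p.1, p.2, fun y hy => hh.comm_zero ?_⟩
  have := hp ⟨y, hy⟩
  simp only [LinearMap.comp_apply, Submodule.subtype_apply, LinearMap.compl₂_apply] at this
  rw [map_sub, LinearMap.sub_apply, this, sub_self]

/-- Transitivity on a sphere of a non-degenerate subspace all of whose isotropic vectors belong. -/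
theorem sphereTrans_of_full [FiniteDimensional F V] [Finite F]
    (hK : ∀ k : F, ∃ k' : F, σ k' = k' ∧ k' ≠ 0 ∧ k' ≠ k) {W : Submodule F V}
    (hW : ∀ x ∈ W, (∀ y ∈ W, h x y = 0) → x = 0) (h3 : 3 ≤ Module.finrank F W)
    (hfull : ∀ x ∈ W, h x x = 0 → x ∈ C) : SphereTrans C h W := by
  set h' := (h.comp W.subtype).compl₂ W.subtype
  have hh' : IsUnitaryForm σ h' := restrict_isUnitary hh hW
  -- two vectors spanning a non-degenerate plane
  have step : ∀ a b : V, a ∈ W → b ∈ W → h a a ≠ 0 → h b b = h a a →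
      h a b * σ (h a b) ≠ h a a * h a a → ∀ g : V, (∀ x ∈ W, h x g = 0) → a + g ∈ C →
      b + g ∈ C := by
    intro a b ha hb hc hbc hN g hg hag
    set c := h a a with hcdef
    have hσc : σ c = c := hh.σ_self a
    set t := h a b with ht
    set w := b - (t / c) • a with hwdef
    have haw : h a w = 0 := by
      simp [hwdef, ← ht, ← hcdef, hc]
    have hwa : h w a = 0 := hh.comm_zero haw
    have hww : h w w = (c * c - t * σ t) / c := by
      have hba : h b a = σ t := by rw [ht, ← hh.swap]
      simp only [hwdef, map_sub, map_smulₛₗ, LinearMap.sub_apply, LinearMap.smul_apply,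
        smul_eq_mul, RingHom.id_apply, hbc, ← ht, ← hcdef, hba, map_div₀, hσc]
      field_simp
      ring
    have hww0 : h w w ≠ 0 := by
      rw [hww]; exact div_ne_zero (sub_ne_zero.2 (Ne.symm hN)) hc
    obtain ⟨r, hr⟩ := hh.exists_norm_eq (c := -c / h w w) (by
      rw [map_div₀, map_neg, hσc, hh.σ_self])
    have hr' : σ r * r * h w w = -c := by rw [hr, div_mul_cancel₀ _ hww0]
    obtain ⟨x, hx⟩ := hh.ne_id
    have hx0 : x ≠ 0 := fun e => hx (by simp [e])
    have hσx0 : σ x ≠ 0 := (map_ne_zero σ).2 hx0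
    set ζ := x / σ x with hζ
    have hζ1 : σ ζ * ζ = 1 := by
      rw [hζ, map_div₀, hh.invol]; field_simp
    have hζne : ζ ≠ 1 := by
      rw [hζ, Ne, div_eq_one_iff_eq hσx0]; exact fun e => hx e.symm
    set e := a + r • w with hedef
    set f := a + (ζ * r) • w with hfdef
    have hwW : w ∈ W := W.sub_mem hb (W.smul_mem _ ha)
    have heW : e ∈ W := W.add_mem ha (W.smul_mem _ hwW)
    have hfW : f ∈ W := W.add_mem ha (W.smul_mem _ hwW)
    have hee : h e e = 0 := by
      simp only [hedef, map_add, map_smulₛₗ, LinearMap.add_apply, LinearMap.smul_apply,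
        smul_eq_mul, RingHom.id_apply, haw, hwa, ← hcdef]
      linear_combination hr'
    have hff : h f f = 0 := by
      simp only [hfdef, map_add, map_smulₛₗ, LinearMap.add_apply, LinearMap.smul_apply,
        smul_eq_mul, RingHom.id_apply, haw, hwa, ← hcdef, map_mul]
      linear_combination (σ r * r * h w w) * hζ1 + hr'
    have hef : h e f = c * (1 - ζ) := by
      simp only [hedef, hfdef, map_add, map_smulₛₗ, LinearMap.add_apply, LinearMap.smul_apply,
        smul_eq_mul, RingHom.id_apply, haw, hwa, ← hcdef]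
      linear_combination ζ * hr'
    have hef0 : h e f ≠ 0 := by
      rw [hef]; exact mul_ne_zero hc (sub_ne_zero.2 (Ne.symm hζne))
    have hr0 : r ≠ 0 := fun e' => hc (by
      rw [e'] at hr'; linear_combination hr')
    have h1ζ : (1 : F) - ζ ≠ 0 := sub_ne_zero.2 (Ne.symm hζne)
    have ewmem : w ∈ Submodule.span F {e, f} := by
      refine Submodule.mem_span_pair.2 ⟨((1 - ζ) * r)⁻¹, -((1 - ζ) * r)⁻¹, ?_⟩
      rw [neg_smul, ← sub_eq_add_neg, ← smul_sub, hedef, hfdef, add_sub_add_left_eq_sub,
        ← sub_smul, smul_smul, show r - ζ * r = (1 - ζ) * r by ring,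
        inv_mul_cancel₀ (mul_ne_zero h1ζ hr0), one_smul]
    have eamem : a ∈ Submodule.span F {e, f} := by
      have : a = e - r • w := by rw [hedef, add_sub_cancel_right]
      rw [this]
      exact Submodule.sub_mem _ (Submodule.subset_span (by simp)) (Submodule.smul_mem _ _ ewmem)
    have ebmem : b ∈ Submodule.span F {e, f} := by
      have : b = w + (t / c) • a := by rw [hwdef, sub_add_cancel]
      rw [this]
      exact Submodule.add_mem _ ewmem (Submodule.smul_mem _ _ eamem)
    refine sphereTrans_plane hh hC (hfull e heW hee) (hfull f hfW hff) hef0 a b eamem ebmem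
      hc hbc g (fun y hy => hg y (Submodule.span_le.2 ?_ hy)) hag
    rintro z (rfl | rfl)
    · exact heW
    · exact hfW
  intro a b ha hb hc hbc g hg hag
  set c := h a a with hcdef
  have hσc : σ c = c := hh.σ_self a
  -- a suitable vector of norm `c` orthogonal to `a`
  obtain ⟨m, hmW, ham, hmm, hmb⟩ : ∃ m ∈ W, h a m = 0 ∧ h m m = c ∧
      h m b * σ (h m b) ≠ c * c := by
    set a' : W := ⟨a, ha⟩
    set b' := b - (h a b / c) • a with hb'def
    have hb'W : b' ∈ W := W.sub_mem hb (W.smul_mem _ ha)
    have hab' : h a b' = 0 := by simp [hb'def, ← hcdef, hc]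
    have key : ∀ m, h a m = 0 → h m b = h m b' := fun m hm => by
      simp [hb'def, hh.comm_zero hm]
    by_cases hbb : h b' b' = 0
    swap
    · -- use `b'` itself or a vector orthogonal to it
      obtain ⟨y₀, hy₀, hy₀W⟩ := exists_forall_eq_zero_notMem
        ![h' a', h' ⟨b', hb'W⟩] (⊥ : Submodule F W) (by rw [finrank_bot, Fintype.card_fin]; omega)
      rw [Submodule.mem_bot] at hy₀W
      have hi : LinearIndependent F ![a', (⟨b', hb'W⟩ : W)] := by
        rw [LinearIndependent.pair_iff]
        intro s t hst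
        have e1 := congrArg (fun z : W => h a z.1) hst
        have e2 := congrArg (fun z : W => h b' z.1) hst
        simp [a', hab', hh.comm_zero hab', ← hcdef, hc, hbb] at e1 e2
        exact ⟨e1, e2⟩
      obtain ⟨y, hy, hyy⟩ := exists_aniso_perp hh' ![a', (⟨b', hb'W⟩ : W)] hi (y₀ := y₀)
        (by intro i; fin_cases i; exacts [hy₀ 0, hy₀ 1]) (by
          rw [Matrix.range_cons_cons_empty, Submodule.mem_span_pair]
          rintro ⟨s, t, rfl⟩
          have e1 : h' a' (s • a' + t • ⟨b', hb'W⟩) = 0 := hy₀ 0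
          have e2 : h' ⟨b', hb'W⟩ (s • a' + t • ⟨b', hb'W⟩) = 0 := hy₀ 1
          simp [h', a', hab', hh.comm_zero hab', ← hcdef, hc, hbb] at e1 e2
          exact hy₀W (by simp [e1, e2]))
      have hay : h a y.1 = 0 := hy 0
      have hby : h b' y.1 = 0 := hy 1
      obtain ⟨s, hs⟩ := hh.exists_norm_eq (c := c / h y.1 y.1) (by
        rw [map_div₀, hσc, hh.σ_self])
      refine ⟨s • y.1, W.smul_mem _ y.2, by simp [hay], ?_, ?_⟩
      · simp only [map_smulₛₗ, LinearMap.smul_apply, smul_eq_mul, RingHom.id_apply]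
        rw [← mul_assoc, mul_comm s, hs]
        exact div_mul_cancel₀ _ hyy
      · rw [key _ (by simp [hay])]
        simp [hh.comm_zero hby, Ne.symm (mul_ne_zero hc hc)]
    by_cases hb'0 : b' = 0
    · obtain ⟨y₀, hy₀, hy₀W⟩ := exists_forall_eq_zero_notMem
        ![h' a'] (⊥ : Submodule F W) (by rw [finrank_bot, Fintype.card_fin]; omega)
      rw [Submodule.mem_bot] at hy₀W
      have ha'0 : a' ≠ 0 := fun e => hc (by
        have : a = 0 := congrArg Subtype.val e
        simp [hcdef, this])
      obtain ⟨y, hy, hyy⟩ := exists_aniso_perp hh' ![a'] (LinearIndependent.of_subsingleton 0 ha'0)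
        (y₀ := y₀) (fun i => by fin_cases i; exact hy₀ 0) (by
          rw [Matrix.range_cons, Matrix.range_empty, Set.union_empty, Submodule.mem_span_singleton]
          rintro ⟨s, rfl⟩
          have e1 : h' a' (s • a') = 0 := hy₀ 0
          simp [h', a', ← hcdef, hc] at e1
          exact hy₀W (by simp [e1]))
      have hay : h a y.1 = 0 := hy 0
      obtain ⟨s, hs⟩ := hh.exists_norm_eq (c := c / h y.1 y.1) (by
        rw [map_div₀, hσc, hh.σ_self])
      refine ⟨s • y.1, W.smul_mem _ y.2, by simp [hay], ?_, ?_⟩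
      · simp only [map_smulₛₗ, LinearMap.smul_apply, smul_eq_mul, RingHom.id_apply]
        rw [← mul_assoc, mul_comm s, hs]
        exact div_mul_cancel₀ _ hyy
      · rw [key _ (by simp [hay]), hb'0]
        simp [Ne.symm (mul_ne_zero hc hc)]
    · -- an isotropic remainder
      have hb'0' : (⟨b', hb'W⟩ : W) ≠ 0 := fun e => hb'0 (congrArg Subtype.val e)
      have hi : LinearIndependent F ![a', (⟨b', hb'W⟩ : W)] := by
        rw [LinearIndependent.pair_iff]
        intro s t hst
        have e1 := congrArg (fun z : W => h a z.1) hst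
        simp [a', hab', ← hcdef, hc] at e1
        subst e1
        rw [zero_smul, zero_add, smul_eq_zero] at hst
        exact ⟨rfl, hst.resolve_right hb'0'⟩
      obtain ⟨y, hy1, hy2⟩ := exists_h_pair hh' hi 0 1
      have hay : h a y.1 = 0 := hy1
      have hby : h b' y.1 = 1 := hy2
      have hyb : h y.1 b' = 1 := by rw [hh.swap, hby, map_one]
      have hya := hh.comm_zero hay
      obtain ⟨d, hd⟩ := hh.exists_trace_one
      set f := y.1 - (d * h y.1 y.1) • b' with hfdef
      have hff : h f f = 0 := by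
        simp only [hfdef, map_sub, map_smulₛₗ, LinearMap.sub_apply, LinearMap.smul_apply,
          smul_eq_mul, RingHom.id_apply, hbb, hby, hyb, map_mul, hh.σ_self]
        linear_combination -(h y.1 y.1) * hd
      have hbf : h b' f = 1 := by simp [hfdef, hbb, hby]
      have hfb : h f b' = 1 := by rw [hh.swap, hbf, map_one]
      obtain ⟨k', hk', hk'0, hk'c⟩ := hK (c * c)
      obtain ⟨β, hβ⟩ := hh.exists_norm_eq hk'
      have hβ0 : β ≠ 0 := fun e => hk'0 (by rw [← hβ, e, mul_zero])
      have hσβ0 : σ β ≠ 0 := (map_ne_zero σ).2 hβ0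
      set α := d * c / σ β with hα
      refine ⟨α • b' + β • f,
        W.add_mem (W.smul_mem _ hb'W) (W.smul_mem _ (W.sub_mem y.2 (W.smul_mem _ hb'W))), ?_, ?_, ?_⟩
      · simp [hfdef, hab', hay]
      · simp only [map_add, map_smulₛₗ, LinearMap.add_apply, LinearMap.smul_apply, smul_eq_mul,
          RingHom.id_apply, hbb, hff, hbf, hfb]
        rw [hα, map_div₀, map_mul, hh.invol, hσc]
        field_simp
        linear_combination c * β * σ β * hd
      · rw [key _ (by simp [hfdef, hab', hay])]
        have : h (α • b' + β • f) b' = σ β := by simp [hbb, hfb]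
        rw [this, hh.invol, hβ]
        exact hk'c
  have h1 : m + g ∈ C := step a m ha hmW hc hmm
    (by rw [ham, zero_mul]; exact Ne.symm (mul_ne_zero hc hc)) g hg hag
  exact step m b hmW hb (by rw [hmm]; exact hc) (by rw [hmm]; exact hbc)
    (by rw [hmm]; exact hmb) g hg h1

/-- Growing a full subspace by the component of a member with anisotropic projection. -/
theorem extend_full [FiniteDimensional F V] {W : Submodule F V}
    (hW : ∀ x ∈ W, (∀ y ∈ W, h x y = 0) → x = 0) (hfull : ∀ x ∈ W, h x x = 0 → x ∈ C)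
    (htr : SphereTrans C h W) {p g : V} (hp : p ∈ W) (hg : ∀ y ∈ W, h y g = 0)
    (hz : p + g ∈ C) (hgg : h g g ≠ 0) :
    (∀ x ∈ W ⊔ Submodule.span F {g}, (∀ y ∈ W ⊔ Submodule.span F {g}, h x y = 0) → x = 0) ∧
      (∀ x ∈ W ⊔ Submodule.span F {g}, h x x = 0 → x ∈ C) ∧
      Module.finrank F W < Module.finrank F ↑(W ⊔ Submodule.span F {g}) := by
  have hgW : g ∉ W := fun e => hgg (hg g e)
  have hg' : ∀ y ∈ W, h g y = 0 := fun y hy => hh.comm_zero (hg y hy)
  have hgmem : g ∈ W ⊔ Submodule.span F {g} :=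
    Submodule.mem_sup_right (Submodule.mem_span_singleton_self g)
  refine ⟨?_, ?_, ?_⟩
  · intro x hx hperp
    obtain ⟨w, hw, _, hτ, rfl⟩ := Submodule.mem_sup.1 hx
    obtain ⟨τ, rfl⟩ := Submodule.mem_span_singleton.1 hτ
    have h1 : w = 0 := hW w hw fun y hy => by
      have := hperp y (Submodule.mem_sup_left hy)
      simpa [hg' y hy] using this
    have h2 := hperp g hgmem
    simp [h1, hgg] at h2
    simp [h1, h2]
  · intro x hx hxx
    obtain ⟨w, hw, _, hτ, rfl⟩ := Submodule.mem_sup.1 hx
    obtain ⟨τ, rfl⟩ := Submodule.mem_span_singleton.1 hτ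
    by_cases hτ0 : τ = 0
    · subst hτ0
      rw [zero_smul, add_zero] at hxx ⊢
      exact hfull w hw hxx
    have e1 : w + τ • g = τ • (τ⁻¹ • w + g) := by
      rw [smul_add, smul_inv_smul₀ hτ0]
    rw [e1] at hxx ⊢
    refine hC.smul _ ?_ τ
    have hz' := hC.iso _ hz
    simp only [map_add, map_smulₛₗ, LinearMap.add_apply, LinearMap.smul_apply, smul_eq_mul,
      RingHom.id_apply, hg p hp, hg' p hp, add_zero, zero_add] at hz'
    have hσ : σ τ * τ ≠ 0 := mul_ne_zero ((map_ne_zero σ).2 hτ0) hτ0
    rw [form_smul_self, mul_eq_zero, or_iff_right hσ] at hxx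
    simp only [map_add, LinearMap.add_apply, hg (τ⁻¹ • w) (W.smul_mem _ hw),
      hg' (τ⁻¹ • w) (W.smul_mem _ hw), add_zero, zero_add] at hxx
    refine htr p _ hp (W.smul_mem _ hw) ?_ ?_ g hg hz
    · intro e; rw [e, zero_add] at hz'; exact hgg hz'
    · linear_combination hxx - hz'
  · exact Submodule.finrank_lt_finrank_of_lt (lt_of_le_of_ne le_sup_left fun e => hgW (e ▸ hgmem))

end Cfsg.Agent.SUGen
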