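import Cfsg.Agent.Lib.SUGen.Transv
import Cfsg.Agent.Lib.SpGen.Odd

/-!
An odd-dimensional unitary space in hyperbolic coordinates, its flag, and a regular unipotent
isometry.
-/

set_option autoImplicit false

namespace Cfsg.Agent.SUGen

open Matrix Cfsg.Agent.ClassicalSimple
open Cfsg.Agent.SpGen (bidiag bidiagDual ext0 lastIdx prevIdx)

variable {k : ℕ} {F : Type*} [Field F]

variable (k F) in
/-- The coordinate space. -/
abbrev Co : Type _ := (Fin (k + 2) → F) × F × (Fin (k + 2) → F)

variable (k) in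
/-- The hermitian form in coordinates. -/
noncomputable def coForm (σ : F →+* F) : Co k F →ₛₗ[σ] Co k F →ₗ[F] F :=
  LinearMap.mk₂'ₛₗ σ (RingHom.id F)
    (fun x y => (σ ∘ x.1) ⬝ᵥ y.2.2 + (σ ∘ x.2.2) ⬝ᵥ y.1 + σ x.2.1 * y.2.1)
    (fun x x' y => by
      simp only [dotProduct, Prod.fst_add, Prod.snd_add, Function.comp_apply, Pi.add_apply,
        map_add, add_mul, Finset.sum_add_distrib]
      ring)
    (fun c x y => by
      simp only [dotProduct, Prod.smul_fst, Prod.smul_snd, Function.comp_apply, Pi.smul_apply,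
        smul_eq_mul, map_mul, mul_assoc, ← Finset.mul_sum]
      ring)
    (fun x y y' => by
      simp only [dotProduct, Prod.fst_add, Prod.snd_add, Pi.add_apply, mul_add,
        Finset.sum_add_distrib]
      ring)
    (fun c x y => by
      simp only [dotProduct, Prod.smul_fst, Prod.smul_snd, Pi.smul_apply, smul_eq_mul,
        RingHom.id_apply, mul_left_comm _ c, ← Finset.mul_sum]
      ring)

variable {σ : F →+* F}

theorem coForm_apply (a : Fin (k + 2) → F) (t : F) (b a' : Fin (k + 2) → F) (t' : F)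
    (b' : Fin (k + 2) → F) :
    coForm k σ (a, t, b) (a', t', b') = (σ ∘ a) ⬝ᵥ b' + (σ ∘ b) ⬝ᵥ a' + σ t * t' := rfl

theorem comp_single (i : Fin (k + 2)) (c : F) :
    σ ∘ (Pi.single i c : Fin (k + 2) → F) = Pi.single i (σ c) := by
  funext j
  by_cases h : j = i
  · subst h; simp
  · simp [h]

theorem coForm_isUnitary (hi : ∀ a, σ (σ a) = a) (hne : ∃ a, σ a ≠ a) :
    IsUnitaryForm σ (coForm k σ) := by
  refine ⟨?_, hi, hne, ?_⟩
  · rintro ⟨a, t, b⟩ ⟨a', t', b'⟩
    simp only [coForm_apply, map_add, map_mul, hi, dotProduct, map_sum, Function.comp_apply]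
    rw [add_comm (∑ x, σ (a' x) * b x)]
    simp only [mul_comm (σ _)]
  · rintro ⟨a, t, b⟩ hx
    have ha : a = 0 := funext fun i => by
      have := hx (0, 0, Pi.single i 1)
      simpa [coForm_apply] using this
    have hb : b = 0 := funext fun i => by
      have := hx (Pi.single i 1, 0, 0)
      simpa [coForm_apply] using this
    have ht : t = 0 := by
      have := hx (0, 1, 0)
      simpa [coForm_apply] using this
    simp [ha, hb, ht]

variable (k F) in
/-- The standard flag: first the `e_i`, then the middle vector, then the `f_i` backwards. -/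
def flag (j : ℕ) : Submodule F (Co k F) where
  carrier := {x | (∀ i : Fin (k + 2), j ≤ i.1 → x.1 i = 0) ∧ (j ≤ k + 2 → x.2.1 = 0) ∧
    ∀ i : Fin (k + 2), j + i.1 ≤ 2 * k + 4 → x.2.2 i = 0}
  zero_mem' := ⟨fun _ _ => rfl, fun _ => rfl, fun _ _ => rfl⟩
  add_mem' := by
    rintro x y ⟨h1, h2, h3⟩ ⟨g1, g2, g3⟩
    exact ⟨fun i hi => by simp [h1 i hi, g1 i hi], fun hj => by simp [h2 hj, g2 hj],
      fun i hi => by simp [h3 i hi, g3 i hi]⟩
  smul_mem' := by
    rintro c x ⟨h1, h2, h3⟩
    exact ⟨fun i hi => by simp [h1 i hi], fun hj => by simp [h2 hj],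
      fun i hi => by simp [h3 i hi]⟩

theorem mem_flag {j : ℕ} {x : Co k F} : x ∈ flag k F j ↔
    (∀ i : Fin (k + 2), j ≤ i.1 → x.1 i = 0) ∧ (j ≤ k + 2 → x.2.1 = 0) ∧
      ∀ i : Fin (k + 2), j + i.1 ≤ 2 * k + 4 → x.2.2 i = 0 := Iff.rfl

theorem flag_mono {i j : ℕ} (h : i ≤ j) : flag k F i ≤ flag k F j := fun _ hx =>
  ⟨fun l hl => hx.1 l (h.trans hl), fun hj => hx.2.1 (h.trans hj),
    fun l hl => hx.2.2 l (by omega)⟩

theorem flag_zero {x : Co k F} (hx : x ∈ flag k F 0) : x = 0 := by
  obtain ⟨a, t, b⟩ := x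
  obtain ⟨h1, h2, h3⟩ := hx
  exact Prod.ext (funext fun i => h1 i (Nat.zero_le _)) (Prod.ext (h2 (Nat.zero_le _))
    (funext fun i => h3 i (by omega)))

theorem flag_top {j : ℕ} (hj : 2 * k + 5 ≤ j) (x : Co k F) : x ∈ flag k F j :=
  ⟨fun i hi => absurd hi (by omega), fun h => absurd h (by omega),
    fun i hi => absurd hi (by omega)⟩

theorem bidiag_map (τ : F →+* F) : (bidiag k F).map τ = bidiag k F := by
  ext i j
  simp only [Matrix.map_apply, SpGen.bidiag, Matrix.of_apply]
  split_ifs <;> simp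

theorem comp_bidiag (a : Fin (k + 2) → F) : σ ∘ (bidiag k F *ᵥ a) = bidiag k F *ᵥ (σ ∘ a) := by
  funext i
  rw [Function.comp_apply, RingHom.map_mulVec, bidiag_map]

theorem comp_dual (b : Fin (k + 2) → F) :
    σ ∘ (bidiagDual k F *ᵥ b) = bidiagDual k F *ᵥ (σ ∘ b) := by
  refine (SpGen.dual_mulVec_eq (funext fun i => ?_)).symm
  rw [Function.comp_apply]
  conv_rhs => rw [← SpGen.transpose_dual_mulVec b, RingHom.map_mulVec, Matrix.transpose_map,
    bidiag_map]

theorem bidiag_dot_dual (a b : Fin (k + 2) → F) :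
    (bidiag k F *ᵥ a) ⬝ᵥ (bidiagDual k F *ᵥ b) = a ⬝ᵥ b := by
  rw [dotProduct_comm, dotProduct_mulVec, ← mulVec_transpose, SpGen.transpose_dual_mulVec,
    dotProduct_comm]

variable (k) in
/-- The linear map of the regular unipotent. -/
noncomputable def regLin (d : F) : Co k F →ₗ[F] Co k F where
  toFun x := (bidiag k F *ᵥ (x.1 + (d * x.2.2 (lastIdx k) - x.2.1) • Pi.single (lastIdx k) 1),
    x.2.1 + x.2.2 (lastIdx k), bidiagDual k F *ᵥ x.2.2)
  map_add' x y := by
    refine Prod.ext ?_ (Prod.ext ?_ ?_)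
    · simp only [Prod.fst_add, Prod.snd_add, Pi.add_apply, ← mulVec_add]
      congr 1
      module
    · simp only [Prod.fst_add, Prod.snd_add, Pi.add_apply]
      ring
    · simp only [Prod.snd_add, mulVec_add]
  map_smul' c x := by
    refine Prod.ext ?_ (Prod.ext ?_ ?_)
    · simp only [Prod.smul_fst, Prod.smul_snd, Pi.smul_apply, smul_eq_mul, RingHom.id_apply,
        ← mulVec_smul]
      congr 1
      module
    · simp only [Prod.smul_fst, Prod.smul_snd, Pi.smul_apply, smul_eq_mul, RingHom.id_apply]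
      ring
    · simp only [Prod.smul_snd, mulVec_smul, RingHom.id_apply]

theorem regLin_isometry {d : F} (hd : d + σ d = -1) (x y : Co k F) :
    coForm k σ (regLin k d x) (regLin k d y) = coForm k σ x y := by
  obtain ⟨a, t, b⟩ := x
  obtain ⟨a', t', b'⟩ := y
  show coForm k σ (bidiag k F *ᵥ (a + (d * b (lastIdx k) - t) • Pi.single (lastIdx k) 1),
    t + b (lastIdx k), bidiagDual k F *ᵥ b)
    (bidiag k F *ᵥ (a' + (d * b' (lastIdx k) - t') • Pi.single (lastIdx k) 1),
    t' + b' (lastIdx k), bidiagDual k F *ᵥ b') = coForm k σ (a, t, b) (a', t', b')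
  rw [coForm_apply, coForm_apply, comp_bidiag, comp_dual, bidiag_dot_dual,
    dotProduct_comm (bidiagDual k F *ᵥ _), bidiag_dot_dual]
  have e : σ ∘ (a + (d * b (lastIdx k) - t) • Pi.single (lastIdx k) (1 : F)) =
      σ ∘ a + (σ d * σ (b (lastIdx k)) - σ t) • Pi.single (lastIdx k) 1 := by
    funext i
    by_cases h : i = lastIdx k
    · subst h; simp
    · simp [h]
  rw [e, add_dotProduct, add_dotProduct, smul_dotProduct, smul_dotProduct, single_one_dotProduct,
    single_one_dotProduct, dotProduct_comm a' (σ ∘ b), Function.comp_apply, map_add, smul_eq_mul,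
    smul_eq_mul]
  linear_combination (σ (b (lastIdx k)) * b' (lastIdx k)) * hd

section Reg

variable (hh : IsUnitaryForm σ (coForm k σ)) {d : F} (hd : d + σ d = -1)
include hh hd

/-- The regular unipotent isometry. -/
noncomputable def reg : UH (coForm k σ) := uMk hh (regLin k d) (regLin_isometry hd)

theorem reg_smul (a : Fin (k + 2) → F) (t : F) (b : Fin (k + 2) → F) :
    reg hh hd • ((a, t, b) : Co k F) =
      (bidiag k F *ᵥ (a + (d * b (lastIdx k) - t) • Pi.single (lastIdx k) 1),
        t + b (lastIdx k), bidiagDual k F *ᵥ b) := rfl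

theorem reg_fixed (x : Co k F) (h : reg hh hd • x = x) :
    ∃ c : F, x = c • ((Pi.single 0 1, 0, 0) : Co k F) := by
  obtain ⟨a, t, b⟩ := x
  rw [reg_smul, Prod.mk.injEq, Prod.mk.injEq] at h
  obtain ⟨h1, h2, h3⟩ := h
  have hb : ∀ i : Fin (k + 2), i.1 < k + 1 → b i = 0 := by
    intro i hi
    have e := congrFun (SpGen.transpose_dual_mulVec b) ⟨i.1 + 1, by omega⟩
    rw [h3, SpGen.bidiag_transpose_mulVec, if_neg (Nat.succ_ne_zero _)] at e
    simpa using e
  have hL : b (lastIdx k) = 0 := by simpa using h2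
  have hb0 : b = 0 := funext fun i => by
    by_cases hi : i.1 < k + 1
    · exact hb i hi
    · rw [show i = lastIdx k from Fin.ext (by simp [lastIdx]; omega), hL]; rfl
  have ht : t = 0 := by
    have e := congrFun h1 (lastIdx k)
    rw [SpGen.bidiag_mulVec, SpGen.ext0_ge _ (by simp [lastIdx])] at e
    simpa [hL] using e
  have ha : ∀ i : Fin (k + 2), i ≠ 0 → a i = 0 := by
    intro i hi
    have hi0 : i.1 ≠ 0 := fun e => hi (Fin.ext e)
    have e := congrFun h1 ⟨i.1 - 1, by omega⟩
    rw [SpGen.bidiag_mulVec, hL, ht, mul_zero, sub_zero, zero_smul, add_zero] at e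
    have e1 : i.1 - 1 + 1 = i.1 := by omega
    simpa [e1] using e
  refine ⟨a 0, ?_⟩
  subst hb0 ht
  refine Prod.ext (funext fun i => ?_) (Prod.ext (by simp) (by simp))
  by_cases hi : i = 0
  · subst hi; simp
  · simp [hi, ha i hi]

theorem reg_flag (j : ℕ) (x : Co k F) (hx : x ∈ flag k F (j + 1)) :
    reg hh hd • x - x ∈ flag k F j := by
  obtain ⟨a, t, b⟩ := x
  obtain ⟨h1, h2, h3⟩ := hx
  simp only at h1 h2 h3
  rw [reg_smul]
  refine ⟨fun i hi => ?_, fun hj => ?_, fun i hi => ?_⟩
  · have hz : ∀ l : ℕ, i.1 < l → ext0 a l = 0 := fun l hl => by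
      unfold SpGen.ext0
      split_ifs with h
      · exact h1 ⟨l, h⟩ (by simp only; omega)
      · rfl
    set c := d * b (lastIdx k) - t with hc
    have hc0 : j + 1 ≤ k + 2 → c = 0 := fun hj => by
      rw [hc, h2 hj, h3 (lastIdx k) (by simp [lastIdx]; omega)]; ring
    show (bidiag k F *ᵥ (a + c • Pi.single (lastIdx k) 1)) i - a i = 0
    have := i.2
    rw [hc0 (by omega), zero_smul, add_zero, SpGen.bidiag_mulVec, hz _ (Nat.lt_succ_self _)]
    ring
  · show t + b (lastIdx k) - t = 0
    rw [h3 (lastIdx k) (by simp [lastIdx]; omega)]; ring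
  · show (bidiagDual k F *ᵥ b) i - b i = 0
    set b' := bidiagDual k F *ᵥ b with hb'
    have key : ∀ (l : ℕ) (hl : l < k + 2), j + 1 + l ≤ 2 * k + 4 → b' ⟨l, hl⟩ = 0 := by
      intro l
      induction l with
      | zero =>
        intro hl hle
        have e := congrFun (SpGen.transpose_dual_mulVec b) ⟨0, hl⟩
        rw [SpGen.bidiag_transpose_mulVec, ← hb'] at e
        simp only [if_pos, add_zero] at e
        rw [e]; exact h3 _ hle
      | succ l ih =>
        intro hl hle
        have e := congrFun (SpGen.transpose_dual_mulVec b) ⟨l + 1, hl⟩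
        rw [SpGen.bidiag_transpose_mulVec, if_neg (Nat.succ_ne_zero _), ← hb'] at e
        simp only [Nat.add_sub_cancel, SpGen.ext0, dif_pos (show l < k + 2 by omega)] at e
        rw [ih (by omega) (by omega), add_zero] at e
        rw [e]; exact h3 _ hle
    have e := congrFun (SpGen.transpose_dual_mulVec b) i
    rw [SpGen.bidiag_transpose_mulVec, ← hb'] at e
    by_cases hi0 : i.1 = 0
    · rw [if_pos hi0, add_zero] at e; rw [e, sub_self]
    · rw [if_neg hi0, SpGen.ext0, dif_pos (show i.1 - 1 < k + 2 by omega),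
        key (i.1 - 1) (by omega) (by omega), add_zero] at e
      rw [e, sub_self]

end Reg

end Cfsg.Agent.SUGen
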