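import Cfsg.Agent.Lib.SUGen.Triple

/-!
Two conjugate regular unipotents of the three-dimensional unitary group: coordinates and criteria.
-/

set_option autoImplicit false

namespace Cfsg.Agent.SUGen.Dim3

open Matrix Cfsg.Agent.ClassicalSimple

variable {F : Type*} [Field F]

/-- The hermitian form in coordinates adapted to an isotropic pair. -/
noncomputable def form3 (σ : F →+* F) : (Fin 3 → F) →ₛₗ[σ] (Fin 3 → F) →ₗ[F] F :=
  LinearMap.mk₂'ₛₗ σ (RingHom.id F)
    (fun x y => σ (x 0) * y 2 + σ (x 2) * y 0 + σ (x 1) * y 1)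
    (fun x x' y => by simp only [Pi.add_apply, map_add]; ring)
    (fun c x y => by simp only [Pi.smul_apply, smul_eq_mul, map_mul]; ring)
    (fun x y y' => by simp only [Pi.add_apply]; ring)
    (fun c x y => by simp only [Pi.smul_apply, smul_eq_mul, RingHom.id_apply]; ring)

variable {σ : F →+* F}

theorem form3_apply (x y : Fin 3 → F) :
    form3 σ x y = σ (x 0) * y 2 + σ (x 2) * y 0 + σ (x 1) * y 1 := rfl

theorem form3_isUnitary (hi : ∀ a, σ (σ a) = a) (hne : ∃ a, σ a ≠ a) :
    IsUnitaryForm σ (form3 σ) := by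
  refine ⟨fun x y => ?_, hi, hne, fun x hx => ?_⟩
  · simp only [form3_apply, map_add, map_mul, hi]; ring
  · have h0 := hx ![0, 0, 1]
    have h1 := hx ![0, 1, 0]
    have h2 := hx ![1, 0, 0]
    simp [form3_apply] at h0 h1 h2
    funext i
    fin_cases i <;> assumption

theorem mat3_mulVec (A : Matrix (Fin 3) (Fin 3) F) (x : Fin 3 → F) :
    A *ᵥ x = ![A 0 0 * x 0 + A 0 1 * x 1 + A 0 2 * x 2, A 1 0 * x 0 + A 1 1 * x 1 + A 1 2 * x 2,
      A 2 0 * x 0 + A 2 1 * x 1 + A 2 2 * x 2] := by
  funext i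
  fin_cases i <;> simp [Matrix.mulVec, dotProduct, Fin.sum_univ_three]

variable (hh : IsUnitaryForm σ (form3 σ))
include hh

/-- An isometry given by a matrix. -/
noncomputable def mk3 (A : Matrix (Fin 3) (Fin 3) F)
    (hA : ∀ x y, form3 σ (A *ᵥ x) (A *ᵥ y) = form3 σ x y) : UH (form3 σ) :=
  uMk hh (Matrix.toLin' A) fun x y => by
    rw [Matrix.toLin'_apply, Matrix.toLin'_apply, hA]

theorem mk3_smul {A : Matrix (Fin 3) (Fin 3) F}
    (hA : ∀ x y, form3 σ (A *ᵥ x) (A *ᵥ y) = form3 σ x y) (x : Fin 3 → F) :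
    mk3 hh A hA • x = A *ᵥ x := Matrix.toLin'_apply A x

theorem mk3_mem {A : Matrix (Fin 3) (Fin 3) F}
    (hA : ∀ x y, form3 σ (A *ᵥ x) (A *ᵥ y) = form3 σ x y) (hdet : A.det = 1) :
    mk3 hh A hA ∈ SUH (form3 σ) := by
  rw [mem_SUH]
  show LinearMap.det (Matrix.toLin' A) = 1
  rw [LinearMap.det_toLin', hdet]

omit hh in
theorem upper_isometry {d : F} (hd : d + σ d = -1) (x y : Fin 3 → F) :
    form3 σ (!![1, -1, d; 0, 1, 1; 0, 0, 1] *ᵥ x) (!![1, -1, d; 0, 1, 1; 0, 0, 1] *ᵥ y) =
      form3 σ x y := by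
  simp only [mat3_mulVec]
  simp [form3_apply]
  linear_combination (σ (x 2) * y 2) * hd

omit hh in
theorem lower_isometry {r e : F} (hr : σ r = r) (he : e + σ e = -(r * r)) (x y : Fin 3 → F) :
    form3 σ (!![1, 0, 0; r, 1, 0; e, -r, 1] *ᵥ x) (!![1, 0, 0; r, 1, 0; e, -r, 1] *ᵥ y) =
      form3 σ x y := by
  simp only [mat3_mulVec]
  simp [form3_apply, hr]
  linear_combination (σ (x 0) * y 0) * he

/-- The regular unipotent fixing the first vector. -/
noncomputable def upper {d : F} (hd : d + σ d = -1) : UH (form3 σ) :=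
  mk3 hh _ (upper_isometry hd)

/-- The regular unipotent fixing the last vector. -/
noncomputable def lower {r e : F} (hr : σ r = r) (he : e + σ e = -(r * r)) : UH (form3 σ) :=
  mk3 hh _ (lower_isometry hr he)

variable {d : F} (hd : d + σ d = -1)

theorem upper_smul (a t b : F) :
    upper hh hd • ![a, t, b] = ![a - t + d * b, t + b, b] := by
  rw [upper, mk3_smul, mat3_mulVec]
  funext i
  fin_cases i <;> simp <;> ring

theorem upper_inv_smul (a t b : F) :
    (upper hh hd)⁻¹ • ![a, t, b] = ![a + t + σ d * b, t - b, b] := by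
  rw [inv_smul_eq_iff, upper_smul]
  funext i
  fin_cases i <;> simp
  linear_combination (-b) * hd

theorem upper_mem : upper hh hd ∈ SUH (form3 σ) :=
  mk3_mem hh _ (by simp [Matrix.det_fin_three])

variable {r e : F} (hr : σ r = r) (he : e + σ e = -(r * r))

theorem lower_smul (a t b : F) :
    lower hh hr he • ![a, t, b] = ![a, t + r * a, b + e * a - r * t] := by
  rw [lower, mk3_smul, mat3_mulVec]
  funext i
  fin_cases i <;> simp <;> ring

theorem lower_inv_smul (a t b : F) :
    (lower hh hr he)⁻¹ • ![a, t, b] = ![a, t - r * a, b + σ e * a + r * t] := by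
  rw [inv_smul_eq_iff, lower_smul]
  funext i
  fin_cases i <;> simp
  linear_combination (-a) * he

theorem lower_mem : lower hh hr he ∈ SUH (form3 σ) :=
  mk3_mem hh _ (by simp [Matrix.det_fin_three])

/-- The lower unipotent is a conjugate of the upper one in the special unitary group. -/
theorem exists_conj_lower (hr0 : r ≠ 0) :
    ∃ g ∈ SUH (form3 σ), lower hh hr he = g * upper hh hd * g⁻¹ := by
  obtain ⟨θ, hθ⟩ := hh.exists_trace_one
  set S := (e - r * r * d) / r with hS
  have hσS : σ S = -S := by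
    rw [hS, map_div₀, map_sub, map_mul, map_mul, hr, ← neg_div]
    congr 1
    linear_combination he - (r * r) * hd
  set P := θ * S with hP
  have hσP : σ P = -(σ θ * S) := by rw [hP, map_mul, hσS, mul_neg]
  have hPS : P - σ P = S := by rw [hσP, hP]; linear_combination S * hθ
  set Γ := -(σ P / r) with hΓ
  have hσΓ : σ Γ = -(P / r) := by rw [hΓ, map_neg, map_div₀, hh.invol, hr]
  set Φ := -(r * (Γ * σ Γ) * θ) with hΦ
  have hσΦ : σ Φ = -(r * (Γ * σ Γ) * σ θ) := by
    rw [hΦ, map_neg, map_mul, map_mul, map_mul, hr, hh.invol]; ring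
  have hA : ∀ x y, form3 σ (!![0, 0, -r⁻¹; 0, -1, -Γ; -r, -P, -Φ] *ᵥ x)
      (!![0, 0, -r⁻¹; 0, -1, -Γ; -r, -P, -Φ] *ᵥ y) = form3 σ x y := by
    intro x y
    simp only [mat3_mulVec]
    simp [form3_apply, hr, hσΓ, hσΦ]
    rw [hΦ, hσΓ, hΓ]
    field_simp
    linear_combination (-(σ (x 2)) * y 2 * (σ P * P)) * hθ
  refine ⟨mk3 hh _ hA, mk3_mem hh _ (by simp [Matrix.det_fin_three]; field_simp), ?_⟩
  rw [eq_mul_inv_iff_mul_eq]
  refine UH.ext' fun x => ?_
  rw [mul_smul, mul_smul, lower, upper, mk3_smul, mk3_smul, mk3_smul, mk3_smul]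
  have key : e / r + σ P = r * d + P := by
    have : e / r = S + r * d := by rw [hS]; field_simp; ring
    rw [this]; linear_combination (-1 : F) * hPS
  simp only [mat3_mulVec]
  simp
  refine ⟨?_, ?_⟩
  · field_simp
    ring
  · have h1 : r * Γ = -σ P := by rw [hΓ]; field_simp
    have h2 : e * r⁻¹ = e / r := (div_eq_mul_inv e r).symm
    linear_combination (x 2) * h1 - (x 2) * key - (x 2) * h2

theorem upper_pow_smul_basis :
    upper hh hd • (![1, 0, 0] : Fin 3 → F) = ![1, 0, 0] ∧
      upper hh hd • (![0, 1, 0] : Fin 3 → F) = ![0, 1, 0] + (-1 : F) • ![1, 0, 0] := by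
  rw [upper_smul, upper_smul]
  constructor <;> simp

omit hh in
theorem basis_decomp (x : Fin 3 → F) :
    x = x 0 • ![1, 0, 0] + x 1 • ![0, 1, 0] + x 2 • ![0, 0, 1] := by
  funext i
  fin_cases i <;> simp

theorem smul_decomp (g : UH (form3 σ)) (x : Fin 3 → F) :
    g • x = x 0 • g • ![1, 0, 0] + x 1 • g • ![0, 1, 0] + x 2 • g • ![0, 0, 1] := by
  conv_lhs => rw [basis_decomp x]
  rw [smul_add, smul_add, smul_comm g, smul_comm g, smul_comm g]

/-- An element scaling the first vector with a ratio generating the field fills its root group. -/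
theorem mem_centres_of_ratio {H : Subgroup (UH (form3 σ))} (hH : H ≤ SUH (form3 σ))
    (huH : upper hh hd ∈ H) {g : UH (form3 σ)} (hg : g ∈ H) {l : F}
    (hgc : g • ![1, 0, 0] = l • (![1, 0, 0] : Fin 3 → F))
    (hgen : Subring.closure ({l * l / σ l} : Set F) = ⊤) :
    (![1, 0, 0] : Fin 3 → F) ∈ centres hh H := by
  set c : Fin 3 → F := ![1, 0, 0] with hc
  set e2 : Fin 3 → F := ![0, 1, 0] with he2
  set e3 : Fin 3 → F := ![0, 0, 1] with he3
  have hl0 : l ≠ 0 := by
    rintro rfl
    rw [zero_smul] at hgc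
    have := congrArg (fun y => g⁻¹ • y) hgc
    simp only [inv_smul_smul, smul_zero] at this
    simpa [hc] using congrFun this 0
  have hσl : σ l ≠ 0 := (map_ne_zero σ).2 hl0
  -- the shape of `g`
  set ε := l * l / σ l with hε
  obtain ⟨m, n, hm, hgm, hlm⟩ : ∃ m n : F, m ≠ 0 ∧ g • e2 = m • e2 + n • c ∧ l / m = ε := by
    have f1 : (g • e2) 2 = 0 := by
      have := uh_smul_smul g c e2
      rw [hgc] at this
      simp [form3_apply, hc, he2] at this
      exact this.resolve_left hl0
    have f2 : σ l * (g • e3) 2 = 1 := by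
      have := uh_smul_smul g c e3
      rw [hgc] at this
      simpa [form3_apply, hc, he3] using this
    have hdet : l * (g • e2) 1 * (g • e3) 2 = 1 := by
      have hT := mem_SUH.1 (hH hg)
      rw [← LinearMap.det_toMatrix', Matrix.det_fin_three] at hT
      have ej : ∀ i j, LinearMap.toMatrix' ((g : (Fin 3 → F) ≃ₗ[F] (Fin 3 → F)) :
          (Fin 3 → F) →ₗ[F] (Fin 3 → F)) i j = (g • (Pi.single j 1 : Fin 3 → F)) i := fun i j => by
        rw [LinearMap.toMatrix'_apply]; rfl
      have p0 : (Pi.single 0 1 : Fin 3 → F) = c := by funext i; fin_cases i <;> simp [hc]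
      have p1 : (Pi.single 1 1 : Fin 3 → F) = e2 := by funext i; fin_cases i <;> simp [he2]
      have p2 : (Pi.single 2 1 : Fin 3 → F) = e3 := by funext i; fin_cases i <;> simp [he3]
      simp only [ej, p0, p1, p2, hgc, f1] at hT
      simpa [hc] using hT
    refine ⟨(g • e2) 1, (g • e2) 0, ?_, ?_, ?_⟩
    · intro e0; rw [e0] at hdet; simp at hdet
    · funext i
      fin_cases i <;> simp [hc, he2]
      exact f1
    · have hm : (g • e2) 1 * l = σ l := by
        calc (g • e2) 1 * l = (g • e2) 1 * l * (σ l * (g • e3) 2) := by rw [f2, mul_one]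
          _ = σ l * (l * (g • e2) 1 * (g • e3) 2) := by ring
          _ = σ l := by rw [hdet, mul_one]
      have hm0 : (g • e2) 1 ≠ 0 := fun e0 => hσl (by rw [← hm, e0, zero_mul])
      rw [hε, ← hm]
      field_simp
  -- the shears in `H`
  let S : AddSubgroup F :=
    { carrier := {s | ∃ k ∈ H, k • c = c ∧ k • e2 = e2 + s • c}
      zero_mem' := ⟨1, one_mem H, one_smul _ c, by rw [one_smul, zero_smul, add_zero]⟩
      add_mem' := by
        rintro s s' ⟨k, hk, kc, k2⟩ ⟨k', hk', kc', k2'⟩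
        refine ⟨k * k', mul_mem hk hk', by rw [mul_smul, kc', kc], ?_⟩
        rw [mul_smul, k2', smul_add, smul_comm k, kc, k2, add_smul, add_assoc]
      neg_mem' := by
        rintro s ⟨k, hk, kc, k2⟩
        refine ⟨k⁻¹, inv_mem hk, by rw [inv_smul_eq_iff, kc], ?_⟩
        rw [inv_smul_eq_iff, smul_add, k2, smul_comm k, kc, neg_smul, add_neg_cancel_right] }
  have hεS : ∀ s ∈ S, ε * s ∈ S := by
    rintro s ⟨k, hk, kc, k2⟩
    have hgi : g⁻¹ • c = l⁻¹ • c := by
      rw [inv_smul_eq_iff, smul_comm g, hgc, smul_smul, inv_mul_cancel₀ hl0, one_smul]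
    have kc' : (g * k * g⁻¹) • c = c := by
      rw [mul_smul, mul_smul, hgi, smul_comm k, kc, smul_comm g, hgc, smul_smul,
        inv_mul_cancel₀ hl0, one_smul]
    refine ⟨g * k * g⁻¹, mul_mem (mul_mem hg hk) (inv_mem hg), kc', ?_⟩
    have e1 : (g * k * g⁻¹) • (g • e2) = g • e2 + (s * l) • c := by
      rw [mul_smul, mul_smul, inv_smul_smul, k2, smul_add, smul_comm g s c, hgc, smul_smul]
    rw [hgm, smul_add, smul_comm (g * k * g⁻¹) m, smul_comm (g * k * g⁻¹) n, kc'] at e1
    have e2' := congrArg (fun y : Fin 3 → F => m⁻¹ • (y - n • c)) e1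
    simp only [add_sub_cancel_right] at e2'
    rw [inv_smul_smul₀ hm] at e2'
    rw [e2', ← hlm]
    simp only [smul_sub, smul_add, smul_smul, inv_mul_cancel₀ hm, one_smul]
    match_scalars <;> field_simp <;> ring
  obtain ⟨u1, u2⟩ := upper_pow_smul_basis hh hd
  have hneg : (-1 : F) ∈ S := ⟨_, huH, u1, u2⟩
  have hall : ∀ s : F, s ∈ S := by
    let R : Subring F :=
      { carrier := {x | ∀ s ∈ S, x * s ∈ S}
        zero_mem' := fun s _ => by rw [zero_mul]; exact S.zero_mem
        one_mem' := fun s hs => by rwa [one_mul]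
        add_mem' := fun {a b} ha hb s hs => by rw [add_mul]; exact S.add_mem (ha s hs) (hb s hs)
        neg_mem' := fun {a} ha s hs => by rw [neg_mul]; exact S.neg_mem (ha s hs)
        mul_mem' := fun {a b} ha hb s hs => by rw [mul_assoc]; exact ha _ (hb s hs) }
    have hR : (⊤ : Subring F) ≤ R := by
      rw [← hgen, Subring.closure_le, Set.singleton_subset_iff]
      exact hεS
    intro s
    simpa using hR (Subring.mem_top (-s)) _ hneg
  have hcc : form3 σ c c = 0 := by simp [hc, form3_apply]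
  have shape : ∀ (s : F) (k : UH (form3 σ)), k • c = c → k • e2 = e2 + s • c →
      k • e3 = (k • e3) 0 • c + (-σ s) • e2 + e3 := by
    intro s k kc k2
    have f1 := uh_smul_smul k c e3
    have f2 := uh_smul_smul k e2 e3
    rw [kc] at f1
    rw [k2] at f2
    simp [form3_apply, hc, he2, he3] at f1 f2
    funext i
    fin_cases i <;> simp [hc, he2, he3]
    · rw [f1, mul_one] at f2
      linear_combination f2
    · exact f1
  refine ⟨hcc, fun θ hθ => ?_⟩
  obtain ⟨θ0, hθ0⟩ := hh.exists_trace_one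
  obtain ⟨k, hk, kc, k2⟩ := hall (-1)
  obtain ⟨k', hk', kc', k2'⟩ := hall (-(θ * θ0))
  have k3 := shape _ k kc k2
  have k3' := shape _ k' kc' k2'
  set a := (k • e3) 0
  set a' := (k' • e3) 0
  have hsk := skew_of_cond hcc hθ
  have hT : uDil hh c θ hθ = k * k' * (k' * k)⁻¹ := by
    rw [eq_mul_inv_iff_mul_eq]
    refine UH.ext' fun x => ?_
    rw [smul_decomp hh (k * k'), mul_smul (uDil hh c θ hθ), smul_decomp hh (k' * k), uDil_smul,
      mul_smul k, mul_smul k, mul_smul k, mul_smul k', mul_smul k', mul_smul k', kc', kc, k2', k2,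
      k3', k3]
    simp only [smul_add, smul_comm k, smul_comm k', kc, kc', k2, k2', k3, k3']
    funext i
    fin_cases i <;> simp [form3_apply, hc, he2, he3]
    · rw [show σ θ = -θ by linear_combination hsk]
      linear_combination (-(θ * x 2)) * hθ0
    · ring
  rw [hT]
  exact mul_mem (mul_mem hk hk') (inv_mem (mul_mem hk' hk))

/-- Once the first vector is a centre, the two unipotents generate everything. -/
theorem generate_of_centre [Finite F] (hperf : commutator (SUH (form3 σ)) = ⊤) (hr0 : r ≠ 0)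
    {H : Subgroup (UH (form3 σ))} (hvH : lower hh hr he ∈ H)
    (hcC : (![1, 0, 0] : Fin 3 → F) ∈ centres hh H) :
    SUH (form3 σ) ≤ H := by
  set c : Fin 3 → F := ![1, 0, 0] with hc
  have hy : lower hh hr he • c = ![1, r, e] := by rw [hc, lower_smul]; simp
  have hz : (lower hh hr he)⁻¹ • c = ![1, -r, σ e] := by rw [hc, lower_inv_smul]; simp
  have hyC : (![1, r, e] : Fin 3 → F) ∈ centres hh H := hy ▸ centres_image hvH hcC
  have hzC : (![1, -r, σ e] : Fin 3 → F) ∈ centres hh H :=
    hz ▸ centres_image (inv_mem hvH) hcC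
  have he0 : e ≠ 0 := by
    intro e0
    rw [e0, map_zero, add_zero, eq_comm, neg_eq_zero] at he
    exact hr0 (mul_self_eq_zero.1 he)
  have hcy : form3 σ c ![1, r, e] = e := by simp [hc, form3_apply]
  have hcz : form3 σ c ![1, -r, σ e] = σ e := by simp [hc, form3_apply]
  have hyz : form3 σ ![1, r, e] ![1, -r, σ e] = 2 * σ e - r * r := by
    simp [form3_apply, hr]; ring
  have hC := centres_lineClosed (hh := hh) (H := H)
  obtain ⟨p, g, hp, hpg, hg1, hg2, hgg⟩ :=
    triangle_split hh hcC.1 hyC.1 hzC.1 hcy hcz hyz he0 (by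
      rw [map_mul, map_mul, map_sub, map_mul, map_mul, map_ofNat, hh.invol, hr]
      intro e0
      apply mul_ne_zero hr0 hr0
      refine pow_eq_zero_iff (n := 3) (by norm_num) |>.1 ?_
      linear_combination -e0 + (2 * (e * σ e) - r * r * (e + σ e - r * r)) * he)
  obtain ⟨W, hW, -, -, -⟩ :=
    exists_full_of_triangle hh hC hcC hyC (by rw [hcy]; exact he0) hp hg1 hg2 (hpg ▸ hzC) hgg
  have hfr : Module.finrank F (Fin 3 → F) = 3 := Module.finrank_fin_fun F
  have hWtop : W = ⊤ :=
    Submodule.eq_top_of_finrank_eq (le_antisymm (Submodule.finrank_le W) (hfr.trans_le hW.dim))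
  exact SUH_le_of_centres hh H hfr.ge hperf fun x hx => hW.full x (hWtop ▸ Submodule.mem_top) hx

end Cfsg.Agent.SUGen.Dim3
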