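import Cfsg.Agent.Lib.SUGen.Centres

/-!
A line-closed set stable under a unipotent with one-dimensional fixed space, containing the
isotropic vectors of a non-degenerate subspace of dimension three, has all isotropic vectors.
-/

set_option autoImplicit false

namespace Cfsg.Agent.SUGen

open Cfsg.Agent.ClassicalSimple

variable {F V : Type*} [Field F] [AddCommGroup V] [Module F V]
variable {σ : F →+* F} {h : V →ₛₗ[σ] V →ₗ[F] F}
variable (hh : IsUnitaryForm σ h) {C : Set V} (hC : LineClosed h C)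

/-- A non-degenerate subspace all of whose isotropic vectors belong. -/
structure Full (h : V →ₛₗ[σ] V →ₗ[F] F) (C : Set V) (W : Submodule F V) : Prop where
  nondeg : ∀ x ∈ W, (∀ y ∈ W, h x y = 0) → x = 0
  full : ∀ x ∈ W, h x x = 0 → x ∈ C
  dim : 3 ≤ Module.finrank F W

/-- A property closed under `u - 1` holding at some non-zero vector holds at a fixed one. -/
theorem exists_fixed_of_invariant (P : V → Prop) {u : UH h} {e1 : V}
    (hfix : ∀ x : V, u • x = x → ∃ a : F, x = a • e1)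
    (hnil : ∀ x : V, ∃ k : ℕ, (fun z => u • z - z)^[k] x = 0)
    (hP : ∀ z, P z → P (u • z - z)) {z : V} (hz : P z) (hz0 : z ≠ 0) :
    ∃ a : F, a ≠ 0 ∧ P (a • e1) := by
  have key : ∀ (k : ℕ) (z : V), P z → z ≠ 0 → (fun z => u • z - z)^[k] z = 0 →
      ∃ a : F, a ≠ 0 ∧ P (a • e1) := by
    intro k
    induction k with
    | zero => exact fun z _ hne hk => absurd hk hne
    | succ k ih =>
      intro z hz hne hk
      by_cases hd : u • z - z = 0
      · obtain ⟨a, rfl⟩ := hfix z (sub_eq_zero.1 hd)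
        exact ⟨a, fun e => hne (by rw [e, zero_smul]), hz⟩
      · exact ih _ (hP z hz) hd hk
  obtain ⟨k, hk⟩ := hnil z
  exact key k z hz hz0 hk

include hh hC

omit hC in
/-- Members do not lie in a proper orthogonal. -/
theorem exists_nonorth_mem {u : UH h} {e1 : V}
    (hfix : ∀ x : V, u • x = x → ∃ a : F, x = a • e1)
    (hnil : ∀ x : V, ∃ k : ℕ, (fun z => u • z - z)^[k] x = 0)
    (hinv : ∀ x ∈ C, u⁻¹ • x ∈ C) (he : ∃ y ∈ C, h e1 y ≠ 0) {v : V} (hv : v ≠ 0) :
    ∃ y ∈ C, h v y ≠ 0 := by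
  by_contra hcon
  push Not at hcon
  obtain ⟨a, ha, hP⟩ := exists_fixed_of_invariant (fun v => ∀ y ∈ C, h v y = 0) hfix hnil
    (fun z hz y hy => by
      have e1 : h (u • z) y = h z (u⁻¹ • y) := by
        rw [← uh_smul_smul u z, smul_inv_smul]
      simp [e1, hz y hy, hz _ (hinv y hy)]) hcon hv
  obtain ⟨y, hy, hey⟩ := he
  have := hP y hy
  simp [ha, hey] at this

variable [FiniteDimensional F V]

/-- The step. -/
theorem exists_bigger [Finite F] (hK : ∀ k : F, ∃ k' : F, σ k' = k' ∧ k' ≠ 0 ∧ k' ≠ k)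
    {u : UH h} {e1 : V} (hfix : ∀ x : V, u • x = x → ∃ a : F, x = a • e1)
    (hnil : ∀ x : V, ∃ k : ℕ, (fun z => u • z - z)^[k] x = 0)
    (hu : ∀ x ∈ C, u • x ∈ C) (hinv : ∀ x ∈ C, u⁻¹ • x ∈ C) (he : ∃ y ∈ C, h e1 y ≠ 0)
    {W : Submodule F V} (hW : Full h C W) (hne : W ≠ ⊤) {y0 : V} (hy0 : y0 ∈ W)
    (hy00 : y0 ≠ 0) (hy0i : h y0 y0 = 0) (huy0 : u • y0 ∈ W) :
    ∃ W' : Submodule F V, W ≤ W' ∧ Full h C W' ∧
      Module.finrank F W < Module.finrank F W' := by
  have hh' : IsUnitaryForm σ ((h.comp W.subtype).compl₂ W.subtype) :=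
    restrict_isUnitary hh hW.nondeg
  have htr : SphereTrans C h W := sphereTrans_of_full hh hC hK hW.nondeg hW.dim hW.full
  have grow : ∀ p g : V, p ∈ W → (∀ y ∈ W, h y g = 0) → p + g ∈ C → h g g ≠ 0 →
      ∃ W' : Submodule F V, W ≤ W' ∧ Full h C W' ∧
        Module.finrank F W < Module.finrank F W' := fun p g hp hg hz hgg => by
    obtain ⟨h1, h2, h3⟩ := extend_full hh hC hW.nondeg hW.full htr hp hg hz hgg
    exact ⟨_, le_sup_left, ⟨h1, h2, le_trans hW.dim h3.le⟩, h3⟩
  -- some member is neither in `W` nor orthogonal to it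
  obtain ⟨p, g, hp, hg, hz, hp0, hg0⟩ : ∃ p g : V, p ∈ W ∧ (∀ y ∈ W, h y g = 0) ∧ p + g ∈ C ∧
      p ≠ 0 ∧ g ≠ 0 := by
    by_contra hcon
    push Not at hcon
    have dich : ∀ z ∈ C, z ∈ W ∨ ∀ y ∈ W, h y z = 0 := by
      intro z hz
      obtain ⟨p, hp, hg⟩ := exists_proj hh hW.nondeg z
      by_cases hp0 : p = 0
      · subst hp0; exact Or.inr (by simpa using hg)
      · have := hcon p (z - p) hp hg (by rwa [add_sub_cancel]) hp0
        exact Or.inl (by rwa [sub_eq_zero.1 this])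
    have link : ∀ {a b : V}, h b b = 0 → b ∈ W → u • a ∈ W → h a b ≠ 0 → u • b ∈ W := by
      intro a b hbb hb hua hab
      refine (dich _ (hu b (hW.full b hb hbb))).resolve_right fun h0 => hab ?_
      rw [← uh_smul_smul u]
      exact h0 _ hua
    have hiso : ∀ z ∈ W, h z z = 0 → u • z ∈ W := by
      intro z hz hzz
      by_cases hz0 : z = 0
      · simp [hz0]
      by_cases h1 : h y0 z = 0
      swap
      · exact link hzz hz huy0 h1
      obtain ⟨d, hdd, hd1, hd2⟩ := unitary_exists_nonorth hh' (v := (⟨y0, hy0⟩ : W))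
        (v' := ⟨z, hz⟩) (fun e => hy00 (congrArg Subtype.val e))
        (fun e => hz0 (congrArg Subtype.val e)) hy0i hzz
      exact link hzz hz (link hdd d.2 huy0 hd1) fun e => hd2 (hh.comm_zero e)
    let T : V →ₗ[F] V := ((u : V ≃ₗ[F] V) : V →ₗ[F] V)
    have hspan : ∀ z : W, T z.1 ∈ W := by
      intro z
      have hz : z ∈ Submodule.span F {v : W | ((h.comp W.subtype).compl₂ W.subtype) v v = 0} := by
        rw [span_isotropic hh' hW.dim]; exact Submodule.mem_top
      induction hz using Submodule.span_induction with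
      | mem v hv => exact hiso v.1 v.2 hv
      | zero => simp
      | add a b _ _ ha hb => rw [Submodule.coe_add, map_add]; exact W.add_mem ha hb
      | smul a v _ hv => rw [Submodule.coe_smul, map_smul]; exact W.smul_mem a hv
    have hmap : W.map T = W := Submodule.eq_of_le_of_finrank_eq
      (Submodule.map_le_iff_le_comap.2 fun z hz => hspan ⟨z, hz⟩)
      (LinearEquiv.finrank_eq (Submodule.equivMapOfInjective T
        (u : V ≃ₗ[F] V).injective W)).symm
    obtain ⟨a, ha, h1⟩ := exists_fixed_of_invariant (fun z => z ∈ W) hfix hnil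
      (fun z hz => W.sub_mem (hspan ⟨z, hz⟩) hz) hy0 hy00
    obtain ⟨v, hv⟩ : ∃ v : V, v ∉ W := by
      by_contra hall
      push Not at hall
      exact hne (eq_top_iff.2 fun v _ => hall v)
    obtain ⟨pv, hpv, hgv⟩ := exists_proj hh hW.nondeg v
    obtain ⟨b, hb, h2⟩ := exists_fixed_of_invariant (fun z => ∀ y ∈ W, h y z = 0) hfix hnil
      (fun z hz y hy => by
        obtain ⟨y', hy', rfl⟩ : ∃ y' ∈ W, T y' = y := by rw [← hmap] at hy; exact hy
        have : h (T y') (u • z) = h y' z := uh_smul_smul u y' z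
        rw [map_sub, this, hz y' hy', hz _ (hspan ⟨y', hy'⟩), sub_zero])
      hgv (fun e => hv (by rw [sub_eq_zero.1 e]; exact hpv))
    have he1 : e1 ∈ W := by
      simpa [smul_smul, inv_mul_cancel₀ ha] using W.smul_mem a⁻¹ h1
    have h3 : a • e1 = 0 := hW.nondeg _ h1 fun y hy => hh.comm_zero (by
      have := h2 y hy
      rw [map_smul, smul_eq_mul, mul_eq_zero, or_iff_right hb] at this
      rw [map_smul, this, smul_zero])
    obtain ⟨y, -, hey⟩ := he
    exact hey (by rw [(smul_eq_zero.1 h3).resolve_left ha]; simp)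
  by_cases hgg : h g g = 0
  swap
  · exact grow p g hp hg hz hgg
  obtain ⟨y, hy, hgy⟩ := exists_nonorth_mem hh hfix hnil hinv he hg0
  obtain ⟨p2', hp2', hg2'⟩ := exists_proj hh hW.nondeg y
  set g2' := y - p2'
  have hgg2 : h g g2' ≠ 0 := by
    rw [map_sub, hh.comm_zero (hg p2' hp2'), sub_zero]; exact hgy
  have hy' : p2' + g2' ∈ C := by rwa [add_sub_cancel]
  by_cases hgg2' : h g2' g2' = 0
  swap
  · exact grow p2' g2' hp2' hg2' hy' hgg2'
  have hsplit : ∀ a g' : V, a ∈ W → (∀ y ∈ W, h y g' = 0) →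
      h (a + g') (a + g') = h a a + h g' g' := fun a g' ha hg' => by
    rw [map_add, map_add, LinearMap.add_apply, LinearMap.add_apply, hg' a ha,
      hh.comm_zero (hg' a ha), add_zero, zero_add]
  have hgW : ∀ a ∈ W, h g a = 0 := fun a ha => hh.comm_zero (hg a ha)
  -- make both projections non-zero
  obtain ⟨p2, g2, hp2, hg2, hz2, hp20, hg22, ht⟩ : ∃ p2 g2 : V, p2 ∈ W ∧
      (∀ y ∈ W, h y g2 = 0) ∧ p2 + g2 ∈ C ∧ p2 ≠ 0 ∧ h g2 g2 = 0 ∧ h g g2 ≠ 0 := by
    by_cases hp20 : p2' = 0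
    swap
    · exact ⟨p2', g2', hp2', hg2', hy', hp20, hgg2', hgg2⟩
    obtain ⟨θ, hθ, hθs⟩ := hh.exists_skew
    set t := h g g2'
    rw [hp20, zero_add] at hy'
    have e1 : h (p + g) g2' = t := by simp [t, hg2' p hp]
    have hiso : h (g + (θ / t) • g2') (g + (θ / t) • g2') = 0 :=
      iso_add_smul hh hgg hgg2' (by rw [div_mul_cancel₀ _ hgg2]; exact hθs)
    refine ⟨p, g + (θ / t) • g2', hp, fun a ha => by simp [hg a ha, hg2' a ha], ?_, hp0, hiso, ?_⟩
    · rw [← add_assoc]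
      refine hC.line _ hz _ hy' (by rw [e1]; exact hgg2) _ (iso_add_smul hh (hC.iso _ hz) hgg2' ?_)
      rw [e1, div_mul_cancel₀ _ hgg2]; exact hθs
    · simp [hgg, t, hgg2, hθ]
  set t := h g g2
  have hpp : h p p = 0 := by
    have := hC.iso _ hz
    simpa [hgW p hp, hg p hp, hgg] using this
  have hpp2 : h p2 p2 = 0 := by
    have := hC.iso _ hz2
    simpa [hh.comm_zero (hg2 p2 hp2), hg2 p2 hp2, hg22] using this
  obtain ⟨θ, hθ, hθs⟩ := hh.exists_skew
  have hσθ : σ θ = -θ := eq_neg_of_add_eq_zero_right hθs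
  -- moving `p` inside `W`
  have move : ∀ (p : V), p ∈ W → p + g ∈ C → ∀ d ∈ W, h d d = 0 →
      ∃ p', p' ∈ W ∧ p' + g ∈ C ∧ h p' p' = 0 ∧ h p' p2 = h p p2 + σ θ * (h p d * h d p2) := by
    intro p hp hz d hd hdd
    have hm := move_mem hh hC (hW.full d hd hdd) hz hθs
    rw [map_add, hg d hd, add_zero, add_right_comm] at hm
    refine ⟨p + (θ * h d p) • d, W.add_mem hp (W.smul_mem _ hd), hm, ?_, ?_⟩
    · have := hC.iso _ hm
      rwa [hsplit _ _ (W.add_mem hp (W.smul_mem _ hd)) hg, hgg, add_zero] at this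
    · simp only [map_add, map_smulₛₗ, LinearMap.add_apply, LinearMap.smul_apply, smul_eq_mul,
        RingHom.id_apply, map_mul, ← hh.swap]
      ring
  obtain ⟨p1, hp1, hz1, hpp1, hs1⟩ : ∃ p1, p1 ∈ W ∧ p1 + g ∈ C ∧ h p1 p1 = 0 ∧ h p1 p2 ≠ 0 := by
    by_cases hs : h p p2 = 0
    swap
    · exact ⟨p, hp, hz, hpp, hs⟩
    obtain ⟨d, hdd, hd1, hd2⟩ := unitary_exists_nonorth hh' (v := (⟨p, hp⟩ : W))
      (v' := ⟨p2, hp2⟩) (fun e => hp0 (congrArg Subtype.val e))
      (fun e => hp20 (congrArg Subtype.val e)) hpp hpp2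
    obtain ⟨p', h1, h2, h3, h4⟩ := move p hp hz d.1 d.2 hdd
    refine ⟨p', h1, h2, h3, ?_⟩
    rw [h4, hs, zero_add]
    exact mul_ne_zero ((map_ne_zero σ).2 hθ) (mul_ne_zero hd1 fun e => hd2 (hh.comm_zero e))
  obtain ⟨p', hp', hz', hpp', hs'⟩ : ∃ p', p' ∈ W ∧ p' + g ∈ C ∧ h p' p' = 0 ∧
      σ (h p' p2 / t) ≠ h p' p2 / t := by
    set s := h p1 p2 with hsdef
    by_cases hs : σ (s / t) = s / t
    swap
    · exact ⟨p1, hp1, hz1, hpp1, hs⟩
    obtain ⟨g0, hg01, hg02, hg00⟩ := exists_aniso_perp_pair hh' hW.dim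
      (v := (⟨p1, hp1⟩ : W)) (v' := ⟨p2, hp2⟩) hpp1 hpp2 hs1
    obtain ⟨X, hX⟩ := hh.exists_trace_one
    obtain ⟨γ, hγ⟩ := hh.exists_norm_eq (c := -1 / h g0.1 g0.1) (by
      rw [map_div₀, map_neg, map_one, hh.σ_self])
    have hγ' : σ γ * γ * h g0.1 g0.1 = -1 := by rw [hγ]; exact div_mul_cancel₀ _ hg00
    set β := X / s
    have hβ : β * s = X := div_mul_cancel₀ _ hs1
    set dd := p1 + β • p2 + γ • g0.1 with hdddef
    have h21 : h p2 p1 = σ s := by rw [hsdef, ← hh.swap]
    have e01 : h p1 g0.1 = 0 := hg01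
    have e02 : h p2 g0.1 = 0 := hg02
    have hdd : h dd dd = 0 := by
      simp only [hdddef, map_add, map_smulₛₗ, LinearMap.add_apply, LinearMap.smul_apply,
        smul_eq_mul, RingHom.id_apply, hpp1, hpp2, e01, e02, hh.comm_zero e01, hh.comm_zero e02,
        ← hsdef, h21]
      have hσβ : σ β * σ s = σ X := by rw [← map_mul, hβ]
      linear_combination hβ + hσβ + hX + hγ'
    obtain ⟨p', h1, h2, h3, h4⟩ := move p1 hp1 hz1 dd
      (W.add_mem (W.add_mem hp1 (W.smul_mem _ hp2)) (W.smul_mem _ g0.2)) hdd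
    refine ⟨p', h1, h2, h3, ?_⟩
    have e1 : h p1 dd = X := by
      simp [hdddef, hpp1, e01, ← hsdef, hβ]
    have e2 : h dd p2 = s := by
      simp [hdddef, hpp2, hh.comm_zero e02, ← hsdef]
    rw [h4, e1, e2, ← hsdef, hσθ]
    intro hcon
    have e3 : (s + -θ * (X * s)) / t = s / t * (1 - θ * X) := by ring
    rw [e3, map_mul, hs, map_sub, map_one, map_mul, hσθ] at hcon
    have hst : s / t ≠ 0 := div_ne_zero hs1 ht
    have := mul_left_cancel₀ hst hcon
    exact hθ (by linear_combination this - θ * hX)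
  set s := h p' p2 with hsdef
  have hstne : s + t ≠ 0 := by
    intro e
    apply hs'
    rw [eq_neg_of_add_eq_zero_left e, neg_div, div_self ht]
    simp
  set β := θ / (s + t)
  have hβ : β * (s + t) = θ := div_mul_cancel₀ _ hstne
  have hcross : h (p' + g) (p2 + g2) = s + t := by
    simp [hg2 p' hp', hgW p2 hp2, ← hsdef, t]
  have hm := hC.line _ hz' _ hz2 (by rw [hcross]; exact hstne) β
    (iso_add_smul hh (hC.iso _ hz') (hC.iso _ hz2) (by rw [hcross, hβ]; exact hθs))
  rw [show p' + g + β • (p2 + g2) = (p' + β • p2) + (g + β • g2) by module] at hm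
  refine grow _ _ (W.add_mem hp' (W.smul_mem _ hp2)) (fun a ha => by simp [hg a ha, hg2 a ha]) hm
    fun e => ?_
  have hiso := hC.iso _ hm
  have hnorm : β * s + σ (β * s) = 0 := by
    rw [hsplit _ _ (W.add_mem hp' (W.smul_mem _ hp2))
      (fun a ha => by simp [hg a ha, hg2 a ha]), e, add_zero] at hiso
    have h21 : h p2 p' = σ s := by rw [hsdef, ← hh.swap]
    simp only [map_add, map_smulₛₗ, LinearMap.add_apply, LinearMap.smul_apply, smul_eq_mul,
      RingHom.id_apply, hpp', hpp2, ← hsdef, h21] at hiso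
    rw [map_mul]
    linear_combination hiso
  apply hs'
  have hσst : σ (s + t) ≠ 0 := (map_ne_zero σ).2 hstne
  have e1 : θ * (s * σ (s + t) - σ s * (s + t)) = 0 := by
    simp only [β, map_mul, map_div₀, hσθ] at hnorm
    field_simp at hnorm
    linear_combination hnorm
  have e2 := (mul_eq_zero.1 e1).resolve_left hθ
  rw [map_add] at e2
  rw [map_div₀, div_eq_div_iff ((map_ne_zero σ).2 ht) ht]
  linear_combination -e2

/-- All isotropic vectors belong. -/
theorem all_iso_mem [Finite F] (hK : ∀ k : F, ∃ k' : F, σ k' = k' ∧ k' ≠ 0 ∧ k' ≠ k)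
    {u : UH h} {e1 : V} (hfix : ∀ x : V, u • x = x → ∃ a : F, x = a • e1)
    (hnil : ∀ x : V, ∃ k : ℕ, (fun z => u • z - z)^[k] x = 0)
    (hu : ∀ x ∈ C, u • x ∈ C) (hinv : ∀ x ∈ C, u⁻¹ • x ∈ C) (he : ∃ y ∈ C, h e1 y ≠ 0)
    {W : Submodule F V} (hW : Full h C W) {y0 : V} (hy0 : y0 ∈ W) (hy00 : y0 ≠ 0)
    (hy0i : h y0 y0 = 0) (huy0 : u • y0 ∈ W) {x : V} (hx : h x x = 0) : x ∈ C := by
  have key : ∀ (N : ℕ) (W : Submodule F V), Module.finrank F V - Module.finrank F W ≤ N →
      Full h C W → y0 ∈ W → u • y0 ∈ W → x ∈ C := by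
    intro N
    induction N with
    | zero =>
      intro W hN hW _ _
      have : W = ⊤ := Submodule.eq_top_of_finrank_eq
        (le_antisymm (Submodule.finrank_le W) (by omega))
      exact hW.full x (this ▸ Submodule.mem_top) hx
    | succ N ih =>
      intro W hN hW h1 h2
      by_cases hne : W = ⊤
      · exact hW.full x (hne ▸ Submodule.mem_top) hx
      obtain ⟨W', hle, hW', hlt⟩ :=
        exists_bigger hh hC hK hfix hnil hu hinv he hW hne h1 hy00 hy0i h2
      have := Submodule.finrank_le W'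
      exact ih W' (by omega) hW' (hle h1) (hle h2)
  exact key _ W le_rfl hW hy0 huy0

/-- Three members spanning a non-degenerate space give a full one. -/
theorem exists_full_of_triangle {x y p g : V} (hx : x ∈ C) (hy : y ∈ C) (hxy : h x y ≠ 0)
    (hp : p ∈ Submodule.span F {x, y}) (hg1 : h x g = 0) (hg2 : h y g = 0) (hz : p + g ∈ C)
    (hgg : h g g ≠ 0) :
    ∃ W : Submodule F V, Full h C W ∧ x ∈ W ∧ y ∈ W ∧ g ∈ W := by
  set P := Submodule.span F {x, y}
  have hyx : h y x ≠ 0 := fun e => hxy (hh.comm_zero e)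
  have hgP : ∀ a ∈ P, h a g = 0 := fun a ha => by
    obtain ⟨s, t, rfl⟩ := Submodule.mem_span_pair.1 ha
    simp [hg1, hg2]
  have hnd : ∀ a ∈ P, (∀ b ∈ P, h a b = 0) → a = 0 := by
    intro a ha hperp
    obtain ⟨s, t, rfl⟩ := Submodule.mem_span_pair.1 ha
    have e1 := hperp x (Submodule.subset_span (by simp))
    have e2 := hperp y (Submodule.subset_span (by simp))
    simp [hC.iso x hx, hC.iso y hy, hxy, hyx] at e1 e2
    simp [e1, e2]
  have hfull : ∀ a ∈ P, h a a = 0 → a ∈ C := by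
    intro a ha haa
    obtain ⟨s, t, rfl⟩ := Submodule.mem_span_pair.1 ha
    exact line_iso_mem hC hx hy hxy s t haa
  obtain ⟨h1, h2, h3⟩ := extend_full hh hC hnd hfull (sphereTrans_plane hh hC hx hy hxy) hp hgP
    hz hgg
  have hfr : Module.finrank F P = 2 := by
    have hi : LinearIndependent F ![x, y] := by
      rw [LinearIndependent.pair_iff]
      intro s t hst
      have e1 := congrArg (h x) hst
      have e2 := congrArg (h y) hst
      simp [hC.iso x hx, hC.iso y hy, hxy, hyx] at e1 e2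
      exact ⟨e2, e1⟩
    have := finrank_span_eq_card hi
    rwa [Matrix.range_cons_cons_empty, Fintype.card_fin] at this
  exact ⟨_, ⟨h1, h2, by omega⟩, Submodule.mem_sup_left (Submodule.subset_span (by simp)),
    Submodule.mem_sup_left (Submodule.subset_span (by simp)),
    Submodule.mem_sup_right (Submodule.mem_span_singleton_self g)⟩

end Cfsg.Agent.SUGen
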