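import Cfsg.Agent.Lib.SUGen.Grow

/-!
The centres of the full transvection groups in a subgroup of a unitary group, and a criterion for
the subgroup to contain the special unitary group.
-/

set_option autoImplicit false

namespace Cfsg.Agent.SUGen

open Cfsg.Agent.ClassicalSimple

variable {F V : Type*} [Field F] [AddCommGroup V] [Module F V] [FiniteDimensional F V]
variable {σ : F →+* F} {h : V →ₛₗ[σ] V →ₗ[F] F}
variable (hh : IsUnitaryForm σ h) (H : Subgroup (UH h))

/-- The isotropic vectors whose whole transvection group lies in `H`. -/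
def centres : Set V :=
  {x | h x x = 0 ∧ ∀ (θ : F) (hc : θ + σ θ + θ * σ θ * h x x = 0), uDil hh x θ hc ∈ H}

variable {hh H}

/-- The condition on the parameter of a transvection. -/
theorem transv_cond {x : V} (hx : h x x = 0) {θ : F} (hθ : θ + σ θ = 0) :
    θ + σ θ + θ * σ θ * h x x = 0 := by rw [hx, mul_zero, add_zero, hθ]

theorem skew_of_cond {x : V} (hx : h x x = 0) {θ : F} (hc : θ + σ θ + θ * σ θ * h x x = 0) :
    θ + σ θ = 0 := by rwa [hx, mul_zero, add_zero] at hc

theorem centres_image {g : UH h} (hg : g ∈ H) {x : V} (hx : x ∈ centres hh H) :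
    g • x ∈ centres hh H := by
  refine ⟨by rw [uh_smul_smul]; exact hx.1, fun θ hc => ?_⟩
  have hc' : θ + σ θ + θ * σ θ * h x x = 0 := by rwa [uh_smul_smul] at hc
  rw [show uDil hh (g • x) θ hc = g * uDil hh x θ hc' * g⁻¹ from (uDil_conj hh g hc').symm]
  exact mul_mem (mul_mem hg (hx.2 θ hc')) (inv_mem hg)

theorem centres_lineClosed : LineClosed h (centres hh H) where
  iso _ hx := hx.1
  smul x hx a := by
    refine ⟨by simp [hx.1], fun θ hc => ?_⟩
    have hsk := skew_of_cond (show h (a • x) (a • x) = 0 by simp [hx.1]) hc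
    have hc' : a * σ a * θ + σ (a * σ a * θ) + a * σ a * θ * σ (a * σ a * θ) * h x x = 0 := by
      rw [hx.1, mul_zero, add_zero, map_mul, map_mul, hh.invol]
      linear_combination (a * σ a) * hsk
    rw [uDil_scale hh hc hc']
    exact hx.2 _ hc'
  line x hx y hy hxy β e := by
    have hyx : h y x ≠ 0 := fun e' => hxy (hh.comm_zero e')
    have e' : β * h x y + σ (β * h x y) = 0 := by
      simp only [map_add, map_smulₛₗ, LinearMap.add_apply, LinearMap.smul_apply, smul_eq_mul,
        RingHom.id_apply, hx.1, hy.1, hh.swap x y, mul_zero, add_zero, zero_add] at e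
      rw [map_mul]
      linear_combination e
    have hsk : β / h y x + σ (β / h y x) = 0 := by
      rw [map_div₀, hh.swap x y, hh.invol]
      rw [map_mul] at e'
      have h2 : σ (h x y) ≠ 0 := (map_ne_zero σ).2 hxy
      field_simp
      linear_combination e'
    have := centres_image (hy.2 _ (transv_cond hy.1 hsk)) hx
    rwa [uDil_smul, div_mul_cancel₀ _ hyx] at this

theorem uDil_add {c : V} (hc : h c c = 0) {α β : F} (hα : α + σ α + α * σ α * h c c = 0)
    (hβ : β + σ β + β * σ β * h c c = 0) (hαβ : α + β + σ (α + β) + (α + β) * σ (α + β) * h c c = 0) :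
    uDil hh c α hα * uDil hh c β hβ = uDil hh c (α + β) hαβ :=
  UH.ext' fun x => by
    simp only [mul_smul, uDil_smul, map_add, map_smul, smul_eq_mul, hc, mul_zero, add_zero]
    module

/-- The parameters of the transvections with centre `c` in `H`. -/
def params {c : V} (hc : h c c = 0) : AddSubmonoid F where
  carrier := {α | ∃ hα : α + σ α + α * σ α * h c c = 0, uDil hh c α hα ∈ H}
  zero_mem' := ⟨by simp, by
    rw [show uDil hh c 0 _ = 1 from UH.ext' fun x => by simp [uDil_smul]]; exact one_mem _⟩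
  add_mem' := by
    rintro α β ⟨hα, h1⟩ ⟨hβ, h2⟩
    have hαβ : α + β + σ (α + β) + (α + β) * σ (α + β) * h c c = 0 := by
      rw [hc, mul_zero, add_zero, map_add]
      linear_combination skew_of_cond hc hα + skew_of_cond hc hβ
    exact ⟨hαβ, uDil_add hc hα hβ hαβ ▸ mul_mem h1 h2⟩

/-- One transvection suffices over a prime field. -/
theorem mem_centres_of_prime {c : V} (hc : h c c = 0) {κ : F} (hκ : κ ≠ 0)
    (hk : κ + σ κ + κ * σ κ * h c c = 0) (ht : uDil hh c κ hk ∈ H)
    (hp : ∀ k : F, σ k = k → ∃ i : ℕ, k = i) : c ∈ centres hh H := by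
  refine ⟨hc, fun θ hθ => ?_⟩
  have hfix : σ (θ / κ) = θ / κ := by
    rw [map_div₀, eq_neg_of_add_eq_zero_right (skew_of_cond hc hθ),
      eq_neg_of_add_eq_zero_right (skew_of_cond hc hk), neg_div_neg_eq]
  obtain ⟨i, hi⟩ := hp _ hfix
  have h0 : κ ∈ params (hh := hh) (H := H) hc := ⟨hk, ht⟩
  have h1 := AddSubmonoid.nsmul_mem _ h0 i
  rw [nsmul_eq_mul, ← hi, div_mul_cancel₀ _ hκ] at h1
  obtain ⟨_, h2⟩ := h1
  exact h2

/-- A transvection and an element acting on its centre by a scalar of primitive norm. -/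
theorem mem_centres_of_scale {c : V} (hc : h c c = 0) {κ l : F} (hκ : κ ≠ 0)
    (hk : κ + σ κ + κ * σ κ * h c c = 0) (ht : uDil hh c κ hk ∈ H)
    (hl : ∀ k : F, σ k = k → k ≠ 0 → ∃ i : ℕ, k = (σ l * l) ^ i) {g : UH h} (hg : g ∈ H)
    (hgc : g • c = l • c) : c ∈ centres hh H := by
  have hpow : ∀ i : ℕ, (σ l * l) ^ i * κ ∈ params (hh := hh) (H := H) hc := by
    intro i
    induction i with
    | zero => simpa using ⟨hk, ht⟩
    | succ i ih =>
      obtain ⟨hi, hti⟩ := ih
      set α := (σ l * l) ^ i * κ with hα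
      have h1 : g * uDil hh c α hi * g⁻¹ ∈ H := mul_mem (mul_mem hg hti) (inv_mem hg)
      rw [uDil_conj hh g hi] at h1
      have hcl : α + σ α + α * σ α * h (l • c) (l • c) = 0 := by
        rw [← hgc, uh_smul_smul]; exact hi
      have hc' : l * σ l * α + σ (l * σ l * α) + l * σ l * α * σ (l * σ l * α) * h c c = 0 := by
        rw [hc, mul_zero, add_zero, map_mul, map_mul, hh.invol]
        linear_combination (l * σ l) * skew_of_cond hc hi
      rw [uDil_congr hh _ hcl hgc rfl, uDil_scale hh hcl hc'] at h1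
      have e : (σ l * l) ^ (i + 1) * κ = l * σ l * α := by rw [hα, pow_succ]; ring
      rw [e]
      exact ⟨hc', h1⟩
  refine ⟨hc, fun θ hθ => ?_⟩
  by_cases hθ0 : θ = 0
  · subst hθ0
    rw [show uDil hh c 0 hθ = 1 from UH.ext' fun x => by simp [uDil_smul]]
    exact one_mem _
  have hfix : σ (θ / κ) = θ / κ := by
    rw [map_div₀, eq_neg_of_add_eq_zero_right (skew_of_cond hc hθ),
      eq_neg_of_add_eq_zero_right (skew_of_cond hc hk), neg_div_neg_eq]
  obtain ⟨i, hi⟩ := hl _ hfix (div_ne_zero hθ0 hκ)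
  have h1 := hpow i
  rw [← hi, div_mul_cancel₀ _ hκ] at h1
  obtain ⟨_, h2⟩ := h1
  exact h2

variable (hh H)

/-- All isotropic vectors being centres, `H` contains `SU`. -/
theorem SUH_le_of_centres [Finite F] (h3 : 3 ≤ Module.finrank F V)
    (hperf : commutator (SUH h) = ⊤) (hall : ∀ x : V, h x x = 0 → x ∈ centres hh H) :
    SUH h ≤ H := by
  set S : Set (UH h) := {g | ∃ (x : V) (θ : F) (_ : h x x = 0)
    (hc : θ + σ θ + θ * σ θ * h x x = 0), g = uDil hh x θ hc}
  have hSle : Subgroup.closure S ≤ H := by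
    rw [Subgroup.closure_le]
    rintro _ ⟨x, θ, hx, hc, rfl⟩
    exact (hall x hx).2 θ hc
  have hSU : Subgroup.closure S ≤ SUH h := by
    rw [Subgroup.closure_le]
    rintro _ ⟨x, θ, hx, hc, rfl⟩
    show uDil hh x θ hc ∈ SUH h
    rw [mem_SUH, uDil_det, hx, mul_zero, add_zero]
  set N : Subgroup (SUH h) := (Subgroup.closure S).subgroupOf (SUH h)
  have hNn : N.Normal := by
    refine ⟨fun n hn g => ?_⟩
    have e : (Subgroup.closure S).map (MulAut.conj (g : UH h)).toMonoidHom ≤ Subgroup.closure S := by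
      rw [MonoidHom.map_closure, Subgroup.closure_le]
      rintro _ ⟨_, ⟨x, θ, hx, hc, rfl⟩, rfl⟩
      exact Subgroup.subset_closure ⟨(g : UH h) • x, θ, by rw [uh_smul_smul, hx],
        by rw [uh_smul_smul]; exact hc, uDil_conj hh (g : UH h) hc⟩
    rw [Subgroup.mem_subgroupOf] at hn ⊢
    exact e ⟨_, hn, rfl⟩
  rcases SUH_normal_eq_top_or_le_center hh h3 hperf N with hN | hN
  · exact fun g hg => hSle (Subgroup.mem_subgroupOf.1
      (hN ▸ Subgroup.mem_top (⟨g, hg⟩ : SUH h)))
  exfalso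
  obtain ⟨s, hs0, hs⟩ := exists_isotropic hh h3
  obtain ⟨θ, hθ0, hθ⟩ := hh.exists_skew
  have hc := transv_cond hs hθ
  have hm : uDil hh s θ hc ∈ Subgroup.closure S := Subgroup.subset_closure ⟨s, θ, hs, hc, rfl⟩
  obtain ⟨a, -, ha⟩ := (SUH_mem_center_iff hh h3 _).1
    (hN (Subgroup.mem_subgroupOf.2 (show ((⟨_, hSU hm⟩ : SUH h) : UH h) ∈ _ from hm)))
  have e1 : uDil hh s θ hc • s = a • s := ha s
  rw [uDil_smul, hs, mul_zero, zero_smul, add_zero] at e1
  have ha1 : a = 1 := (smul_left_injective F hs0 (by simpa using e1)).symm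
  obtain ⟨y, hy⟩ := exists_h_ne_zero hh hs0
  have e2 : uDil hh s θ hc • y = a • y := ha y
  rw [uDil_smul, ha1, one_smul, add_eq_left] at e2
  exact mul_ne_zero hθ0 hy ((smul_eq_zero.1 e2).resolve_right hs0)

end Cfsg.Agent.SUGen
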