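import Cfsg.Agent.Lib.SUGen.Coord
import Cfsg.Agent.Lib.SUGen.Cent

/-!
The unipotent group of the flag, its simple coefficients, and the class of the regular unipotent:
every element with the same simple coefficients is conjugate to it.
-/

set_option autoImplicit false

namespace Cfsg.Agent.SUGen

open Matrix Cfsg.Agent.ClassicalSimple
open Cfsg.Agent.SpGen (bidiag bidiagDual lastIdx prevIdx)

variable {k : ℕ} {F : Type*} [Field F] {σ : F →+* F}

/-- The isometries moving every step of the flag into the previous one. -/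
def flagGroup (k : ℕ) (σ : F →+* F) : Subgroup (UH (coForm k σ)) where
  carrier := {g | ∀ (j : ℕ) (x : Co k F), x ∈ flag k F (j + 1) → g • x - x ∈ flag k F j}
  one_mem' j x _ := by rw [one_smul, sub_self]; exact zero_mem _
  mul_mem' := by
    intro g g' hg hg' j x hx
    have h1 := hg' j x hx
    have h2 := hg j x hx
    have h3 : g • (g' • x - x) - (g' • x - x) ∈ flag k F j := hg j _ (flag_mono (Nat.le_succ j) h1)
    have e : (g * g') • x - x = (g • (g' • x - x) - (g' • x - x)) + (g • x - x) + (g' • x - x) := by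
      rw [mul_smul, smul_sub]; abel
    rw [e]
    exact add_mem (add_mem h3 h2) h1
  inv_mem' := by
    intro g hg j
    induction j with
    | zero =>
      intro x hx
      have := flag_zero (hg 0 x hx)
      rw [show g⁻¹ • x = x by rw [inv_smul_eq_iff]; exact (sub_eq_zero.1 this).symm, sub_self]
      exact zero_mem _
    | succ j ih =>
      intro x hx
      have h1 := hg (j + 1) x hx
      have e : g⁻¹ • x - x = -((g⁻¹ • (g • x - x) - (g • x - x)) + (g • x - x)) := by
        rw [sub_add_cancel, smul_sub, inv_smul_smul]; abel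
      rw [e]
      exact neg_mem (add_mem (flag_mono (Nat.le_succ j) (ih _ h1)) h1)

theorem shift_pow_mem_flag {g : UH (coForm k σ)} (hg : g ∈ flagGroup k σ) (x : Co k F) (i : ℕ) :
    (shift g ^ i) x ∈ flag k F (2 * k + 5 - i) := by
  induction i with
  | zero => exact flag_top le_rfl _
  | succ i ih =>
    rw [pow_succ', Module.End.mul_apply, shift_apply]
    refine hg _ _ ?_
    exact flag_mono (by omega) ih

theorem shift_pow_eq_zero {g : UH (coForm k σ)} (hg : g ∈ flagGroup k σ) :
    shift g ^ (2 * k + 5) = 0 :=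
  LinearMap.ext fun x => by
    have := shift_pow_mem_flag hg x (2 * k + 5)
    rw [Nat.sub_self] at this
    exact flag_zero this

theorem finrank_co : Module.finrank F (Co k F) = 2 * k + 5 := by
  simp [Co, Module.finrank_prod]; omega

theorem flagGroup_le_SUH : flagGroup k σ ≤ SUH (coForm k σ) := by
  intro g hg
  rw [mem_SUH]
  have hn : IsNilpotent (-shift g) := IsNilpotent.neg ⟨_, shift_pow_eq_zero hg⟩
  have e1 := LinearMap.eval_charpoly (-shift g) (1 : F)
  have hc : (-shift g).charpoly = Polynomial.X ^ Module.finrank F (Co k F) :=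
    ((LinearMap.charpoly_nilpotent_tfae (-shift g)).out 0 1).1 hn
  rw [hc, Polynomial.eval_pow,
    Polynomial.eval_X, one_pow, map_one, sub_neg_eq_add] at e1
  rw [e1, shift, add_sub_cancel]

/-- The index `i` among all coordinates. -/
def loI (i : Fin (k + 1)) : Fin (k + 2) := ⟨i.1, by omega⟩

/-- The index `i + 1` among all coordinates. -/
def hiI (i : Fin (k + 1)) : Fin (k + 2) := ⟨i.1 + 1, by omega⟩

@[simp] theorem loI_val (i : Fin (k + 1)) : (loI i).1 = i.1 := rfl
@[simp] theorem hiI_val (i : Fin (k + 1)) : (hiI i).1 = i.1 + 1 := rfl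

theorem lo_ne_hi (i : Fin (k + 1)) : loI i ≠ hiI i := fun e => by
  simpa using congrArg Fin.val e

theorem hiI_inj {i j : Fin (k + 1)} : hiI i = hiI j ↔ i = j := by simp [Fin.ext_iff]

theorem loI_inj {i j : Fin (k + 1)} : loI i = loI j ↔ i = j := by simp [Fin.ext_iff]

/-- The simple coefficients. -/
noncomputable def phi (g : UH (coForm k σ)) : (Fin (k + 1) → F) × F :=
  (fun i => (g • ((Pi.single (hiI i) 1, 0, 0) : Co k F)).1 (loI i),
    (g • ((0, 1, 0) : Co k F)).1 (lastIdx k))

theorem coeff_add {g g' : UH (coForm k σ)} (hg : g ∈ flagGroup k σ) (hg' : g' ∈ flagGroup k σ)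
    {e : Co k F} {i : Fin (k + 2)} (he : e ∈ flag k F (i.1 + 2)) (hei : e.1 i = 0) :
    ((g * g') • e).1 i = (g • e).1 i + (g' • e).1 i := by
  have h1 := hg' (i.1 + 1) e he
  have h2 := (hg i.1 _ h1).1 i le_rfl
  rw [mul_smul]
  simp only [smul_sub, Prod.fst_sub, Pi.sub_apply, hei, sub_zero] at h2
  linear_combination h2

theorem phi_mul {g g' : UH (coForm k σ)} (hg : g ∈ flagGroup k σ) (hg' : g' ∈ flagGroup k σ) :
    phi (g * g') = phi g + phi g' := by
  refine Prod.ext (funext fun i => coeff_add hg hg' (i := loI i) ?_ ?_)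
    (coeff_add hg hg' (i := lastIdx k) ?_ ?_)
  · refine ⟨fun l hl => ?_, fun _ => rfl, fun _ _ => rfl⟩
    exact Pi.single_eq_of_ne (fun e => by rw [e] at hl; simp at hl) _
  · exact Pi.single_eq_of_ne (fun e => by simpa using congrArg Fin.val e) _
  · exact ⟨fun _ _ => rfl, fun h => absurd h (by simp [lastIdx]), fun _ _ => rfl⟩
  · rfl

theorem phi_one : phi (1 : UH (coForm k σ)) = 0 := by
  refine Prod.ext (funext fun i => ?_) ?_
  · simp only [phi, one_smul]
    exact Pi.single_eq_of_ne (fun e => by simpa using congrArg Fin.val e) _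
  · simp [phi]

variable (k σ) in
/-- The simple coefficients as a homomorphism. -/
noncomputable def phiHom : flagGroup k σ →* Multiplicative ((Fin (k + 1) → F) × F) where
  toFun g := Multiplicative.ofAdd (phi g.1)
  map_one' := by rw [Subgroup.coe_one, phi_one]; rfl
  map_mul' g g' := by rw [Subgroup.coe_mul, phi_mul g.2 g'.2]; rfl

section Gens

variable (hh : IsUnitaryForm σ (coForm k σ))
include hh

/-- The linear map of a short root element. -/
noncomputable def shortLin (σ : F →+* F) (i : Fin (k + 1)) (c : F) : Co k F →ₗ[F] Co k F where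
  toFun x := (x.1 + (c * x.1 (hiI i)) • (Pi.single (loI i) 1 : Fin (k + 2) → F), x.2.1,
    x.2.2 - (σ c * x.2.2 (loI i)) • (Pi.single (hiI i) 1 : Fin (k + 2) → F))
  map_add' x y := by
    refine Prod.ext ?_ (Prod.ext rfl ?_) <;>
    · funext l
      simp only [Prod.fst_add, Prod.snd_add, Pi.add_apply, Pi.sub_apply, Pi.smul_apply,
        smul_eq_mul]
      ring
  map_smul' a x := by
    refine Prod.ext ?_ (Prod.ext rfl ?_) <;>
    · funext l
      simp only [Prod.smul_fst, Prod.smul_snd, Pi.smul_apply, Pi.add_apply, Pi.sub_apply,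
        smul_eq_mul, RingHom.id_apply]
      ring

omit hh in
theorem shortLin_apply (i : Fin (k + 1)) (c : F) (a : Fin (k + 2) → F) (t : F)
    (b : Fin (k + 2) → F) :
    shortLin σ i c ((a, t, b) : Co k F) =
      (a + (c * a (hiI i)) • Pi.single (loI i) 1, t,
        b - (σ c * b (loI i)) • Pi.single (hiI i) 1) := rfl

omit hh in
theorem comp_add_smul_single (a : Fin (k + 2) → F) (c : F) (i : Fin (k + 2)) :
    σ ∘ (a + c • Pi.single i (1 : F)) = σ ∘ a + σ c • Pi.single i 1 := by
  funext j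
  by_cases h : j = i
  · subst h; simp
  · simp [h]

theorem exists_short (i : Fin (k + 1)) (c : F) :
    ∃ g ∈ flagGroup k σ, phi g = (Pi.single i c, 0) := by
  have hT : ∀ x y, coForm k σ (shortLin σ i c x) (shortLin σ i c y) = coForm k σ x y := by
    rintro ⟨a, t, b⟩ ⟨a', t', b'⟩
    rw [shortLin_apply, shortLin_apply, sub_eq_add_neg b, sub_eq_add_neg b', ← neg_smul,
      ← neg_smul, coForm_apply, coForm_apply, comp_add_smul_single, comp_add_smul_single]
    simp only [add_dotProduct, dotProduct_add, smul_dotProduct, dotProduct_smul, smul_eq_mul,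
      single_one_dotProduct, dotProduct_single_one, Pi.add_apply, Pi.smul_apply, Function.comp_apply,
      map_mul, map_neg, hh.invol, Pi.single_eq_of_ne (lo_ne_hi i),
      Pi.single_eq_of_ne (lo_ne_hi i).symm, mul_zero, add_zero]
    ring
  refine ⟨uMk hh (shortLin σ i c) hT, fun j x hx => ?_, Prod.ext (funext fun l => ?_) ?_⟩
  · obtain ⟨a, t, b⟩ := x
    obtain ⟨h1, h2, h3⟩ := hx
    simp only at h1 h2 h3
    rw [uMk_smul, shortLin_apply]
    refine ⟨fun l hl => ?_, fun _ => sub_self t, fun l hl => ?_⟩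
    · simp only [Prod.fst_sub, Pi.sub_apply, Pi.add_apply, Pi.smul_apply, smul_eq_mul]
      by_cases e : l = loI i
      · have : a (hiI i) = 0 := h1 _ (by subst e; simpa using hl)
        simp [this]
      · simp [e]
    · simp only [Prod.snd_sub, Pi.sub_apply, Pi.smul_apply, smul_eq_mul]
      by_cases e : l = hiI i
      · have : b (loI i) = 0 := h3 _ (by subst e; simp only [hiI_val] at hl; simp only [loI_val]; omega)
        simp [this]
      · simp [e]
  · simp only [phi, uMk_smul, shortLin_apply, Pi.add_apply, Pi.smul_apply, smul_eq_mul]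
    rw [Pi.single_eq_of_ne (lo_ne_hi l), zero_add]
    by_cases e : l = i
    · subst e; simp
    · rw [Pi.single_eq_of_ne e, Pi.single_eq_of_ne (fun h => e (loI_inj.1 h)), mul_zero]
  · simp [phi, uMk_smul, shortLin_apply]

/-- The linear map of a middle root element. -/
noncomputable def midLin (σ : F →+* F) (ρ e : F) : Co k F →ₗ[F] Co k F where
  toFun x := (x.1 + (e * x.2.2 (lastIdx k) - σ ρ * x.2.1) • Pi.single (lastIdx k) 1,
    x.2.1 + ρ * x.2.2 (lastIdx k), x.2.2)
  map_add' x y := by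
    refine Prod.ext ?_ (Prod.ext ?_ rfl)
    · simp only [Prod.fst_add, Prod.snd_add, Pi.add_apply]
      module
    · simp only [Prod.fst_add, Prod.snd_add, Pi.add_apply]
      ring
  map_smul' a x := by
    refine Prod.ext ?_ (Prod.ext ?_ rfl)
    · simp only [Prod.smul_fst, Prod.smul_snd, Pi.smul_apply, smul_eq_mul, RingHom.id_apply]
      module
    · simp only [Prod.smul_fst, Prod.smul_snd, Pi.smul_apply, smul_eq_mul, RingHom.id_apply]
      ring

theorem exists_mid (s : F) : ∃ g ∈ flagGroup k σ, phi g = (0, s) := by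
  obtain ⟨dt, hdt⟩ := hh.exists_trace_one
  obtain ⟨ρ, hρ⟩ : ∃ ρ, σ ρ = -s := ⟨σ (-s), hh.invol _⟩
  set e := -dt * (σ ρ * ρ) with he
  have hesum : e + σ e = -(σ ρ * ρ) := by
    rw [he, map_mul, map_neg, map_mul, hh.invol]
    linear_combination (-(σ ρ * ρ)) * hdt
  set T := midLin σ ρ e
  have hT : ∀ x y, coForm k σ (T x) (T y) = coForm k σ x y := by
    rintro ⟨a, t, b⟩ ⟨a', t', b'⟩
    show coForm k σ (a + (e * b (lastIdx k) - σ ρ * t) • Pi.single (lastIdx k) 1,
      t + ρ * b (lastIdx k), b)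
      (a' + (e * b' (lastIdx k) - σ ρ * t') • Pi.single (lastIdx k) 1, t' + ρ * b' (lastIdx k), b')
      = coForm k σ (a, t, b) (a', t', b')
    rw [coForm_apply, coForm_apply, comp_add_smul_single]
    simp only [add_dotProduct, dotProduct_add, smul_dotProduct, dotProduct_smul, smul_eq_mul,
      single_one_dotProduct, dotProduct_single_one, Function.comp_apply, map_mul, map_sub, map_add,
      hh.invol]
    linear_combination (σ (b (lastIdx k)) * b' (lastIdx k)) * hesum
  refine ⟨uMk hh T hT, fun j x hx => ?_, Prod.ext (funext fun l => ?_) ?_⟩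
  · obtain ⟨a, t, b⟩ := x
    obtain ⟨h1, h2, h3⟩ := hx
    simp only at h1 h2 h3
    rw [uMk_smul]
    refine ⟨fun l hl => ?_, fun hj => ?_, fun l _ => sub_self (b l)⟩
    · show a l + ((e * b (lastIdx k) - σ ρ * t) • Pi.single (lastIdx k) (1 : F)) l - a l = 0
      have := l.2
      rw [h2 (by omega), h3 (lastIdx k) (by simp [lastIdx]; omega)]
      simp
    · show t + ρ * b (lastIdx k) - t = 0
      rw [h3 (lastIdx k) (by simp [lastIdx]; omega)]
      ring
  · show ((Pi.single (hiI l) (1 : F) : Fin (k + 2) → F) +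
      (e * (0 : Fin (k + 2) → F) (lastIdx k) - σ ρ * 0) •
        (Pi.single (lastIdx k) (1 : F) : Fin (k + 2) → F)) (loI l) = 0
    simp [Pi.single_eq_of_ne (lo_ne_hi l)]
  · show ((0 : Fin (k + 2) → F) +
      (e * (0 : Fin (k + 2) → F) (lastIdx k) - σ ρ * 1) •
        (Pi.single (lastIdx k) (1 : F) : Fin (k + 2) → F)) (lastIdx k) = s
    simp [hρ]

theorem phiHom_surjective : Function.Surjective (phiHom k σ) := by
  rintro ⟨f, s⟩
  have hsum : ∀ S : Finset (Fin (k + 1)), ∃ g ∈ flagGroup k σ,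
      phi g = (∑ i ∈ S, Pi.single i (f i), 0) := by
    intro S
    induction S using Finset.induction with
    | empty => exact ⟨1, one_mem _, by rw [phi_one, Finset.sum_empty]; rfl⟩
    | insert i S hi ih =>
      obtain ⟨g, hg, e1⟩ := exists_short hh i (f i)
      obtain ⟨g', hg', e2⟩ := ih
      refine ⟨g * g', mul_mem hg hg', ?_⟩
      rw [phi_mul hg hg', e1, e2, Finset.sum_insert hi, Prod.mk_add_mk, add_zero]
  obtain ⟨g, hg, e1⟩ := hsum Finset.univ
  obtain ⟨g', hg', e2⟩ := exists_mid hh s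
  refine ⟨⟨g * g', mul_mem hg hg'⟩, ?_⟩
  show Multiplicative.ofAdd (phi (g * g')) = _
  rw [phi_mul hg hg', e1, e2, Prod.mk_add_mk, add_zero, zero_add, Finset.univ_sum_single f]
  rfl

omit hh in
theorem card_fixed_sq [Finite F] (hi : ∀ a, σ (σ a) = a) (hne : ∃ a, σ a ≠ a) :
    Nat.card F = Nat.card {x : F // σ x = x} ^ 2 := by
  obtain ⟨ρ, hρ⟩ := hne
  have hd : ρ - σ ρ ≠ 0 := sub_ne_zero.2 (Ne.symm hρ)
  let f : {x : F // σ x = x} × {x : F // σ x = x} → F := fun p => p.1.1 + p.2.1 * ρ
  have hf : Function.Bijective f := by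
    refine ⟨fun p p' e => ?_, fun y => ?_⟩
    · have e' : σ (f p) = σ (f p') := congrArg σ e
      simp only [f, map_add, map_mul, p.1.2, p.2.2, p'.1.2, p'.2.2] at e e'
      have h2 : p.2.1 = p'.2.1 := mul_right_cancel₀ hd (by linear_combination e - e')
      rw [h2, add_left_inj] at e
      exact Prod.ext (Subtype.ext e) (Subtype.ext h2)
    · have hb : σ ((y - σ y) / (ρ - σ ρ)) = (y - σ y) / (ρ - σ ρ) := by
        rw [map_div₀, map_sub, map_sub, hi, hi, ← neg_sub y, ← neg_sub ρ, neg_div_neg_eq]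
      refine ⟨⟨⟨y - (y - σ y) / (ρ - σ ρ) * ρ, ?_⟩, ⟨_, hb⟩⟩, by simp [f]⟩
      rw [map_sub, map_mul, hb]
      field_simp
      ring
  rw [← Nat.card_congr (Equiv.ofBijective f hf), Nat.card_prod, sq]

/-- Elements of the flag group with the simple coefficients of `u` are conjugate to `u`. -/
theorem exists_conj_eq_mul [Finite F] {d : F} (hd : d + σ d = -1) {z : UH (coForm k σ)}
    (hz : z ∈ flagGroup k σ) (hφ : phi z = 0) :
    ∃ g ∈ SUH (coForm k σ), g * reg hh hd * g⁻¹ = reg hh hd * z := by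
  classical
  set u := reg hh hd
  set U := flagGroup k σ
  have huU : u ∈ U := reg_flag hh hd
  have hfin : Finite (Co k F ≃ₗ[F] Co k F) :=
    Finite.of_injective (fun e : Co k F ≃ₗ[F] Co k F => (e : Co k F → Co k F))
      DFunLike.coe_injective
  have hx0 : ∃ x : Co k F, (shift u ^ (2 * k + 4)) x ≠ 0 := by
    by_contra hcon
    push Not at hcon
    have key : ∀ p : ℕ, Module.finrank F (LinearMap.ker (shift u ^ p)) ≤ p := by
      have hker : Module.finrank F (LinearMap.ker (shift u)) ≤ 1 := by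
        refine (Submodule.finrank_mono (show LinearMap.ker (shift u) ≤
          Submodule.span F {((Pi.single 0 1, 0, 0) : Co k F)} from fun x hx => ?_)).trans
          ((finrank_span_le_card _).trans (by simp))
        rw [LinearMap.mem_ker, shift_apply, sub_eq_zero] at hx
        obtain ⟨c, rfl⟩ := reg_fixed hh hd x hx
        exact Submodule.smul_mem _ _ (Submodule.mem_span_singleton_self _)
      intro p
      induction p with
      | zero => simp [Module.End.one_eq_id]
      | succ p ih =>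
        rw [pow_succ']
        have := SpGen.finrank_ker_comp_le (shift u ^ p) (shift u)
        rw [← Module.End.mul_eq_comp] at this
        omega
    have h2 := key (2 * k + 4)
    rw [show shift u ^ (2 * k + 4) = 0 from LinearMap.ext hcon, LinearMap.ker_zero, finrank_top,
      finrank_co] at h2
    omega
  have hfix : ∀ g ∈ U, ∀ x : Co k F, shift u x = 0 → g • x = x := by
    intro g hg x hx
    rw [shift_apply, sub_eq_zero] at hx
    obtain ⟨c, rfl⟩ := reg_fixed hh hd x hx
    have h1 : c • ((Pi.single 0 1, 0, 0) : Co k F) ∈ flag k F (0 + 1) :=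
      Submodule.smul_mem _ _ ⟨fun l hl => Pi.single_eq_of_ne
        (fun e => by rw [e] at hl; simp at hl) _, fun _ => rfl, fun _ _ => rfl⟩
    exact sub_eq_zero.1 (flag_zero (hg 0 _ h1))
  have hcent := card_centralizer_le hh u (m := 2 * k + 4) finrank_co
    (shift_pow_eq_zero huU) hx0 U hfix
  set Q := Nat.card {x : F // σ x = x}
  have hindex : Nat.card U = Nat.card (phiHom k σ).ker * Q ^ (2 * k + 4) := by
    rw [Subgroup.card_eq_card_quotient_mul_card_subgroup (phiHom k σ).ker, mul_comm]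
    congr 1
    rw [Nat.card_congr (QuotientGroup.quotientKerEquivOfSurjective _
      (phiHom_surjective hh)).toEquiv, Nat.card_congr Multiplicative.toAdd, Nat.card_prod,
      Nat.card_fun, Nat.card_fin, card_fixed_sq hh.invol hh.ne_id, ← pow_succ, ← pow_mul,
      show 2 * (k + 1 + 1) = 2 * k + 4 by ring]
  -- the orbit and the coset
  set O : Set (UH (coForm k σ)) := {X | ∃ g ∈ U, X = g * u * g⁻¹}
  set K0 : Set (UH (coForm k σ)) := (fun z : (phiHom k σ).ker => u * z.1.1) '' Set.univ
  have hφ' : ∀ g : U, phiHom k σ g = 1 ↔ phi g.1 = 0 := fun g => Iff.rfl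
  have hsub : O ⊆ K0 := by
    rintro _ ⟨g, hg, rfl⟩
    have hm : u⁻¹ * g * u * g⁻¹ ∈ U :=
      mul_mem (mul_mem (mul_mem (inv_mem huU) hg) huU) (inv_mem hg)
    refine ⟨⟨⟨_, hm⟩, ?_⟩, trivial, by simp [mul_assoc]⟩
    have e : (⟨_, hm⟩ : U) = (⟨u, huU⟩ : U)⁻¹ * ⟨g, hg⟩ * ⟨u, huU⟩ * (⟨g, hg⟩ : U)⁻¹ :=
      Subtype.ext rfl
    rw [MonoidHom.mem_ker, e]
    simp only [map_mul, map_inv]
    rw [mul_comm (phiHom k σ ⟨u, huU⟩)⁻¹, inv_mul_cancel_right, mul_inv_cancel]
  have hcard : K0.ncard ≤ O.ncard := by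
    have h1 : K0.ncard ≤ Nat.card (phiHom k σ).ker :=
      (Set.ncard_image_le (Set.toFinite _)).trans (by rw [Set.ncard_univ])
    let rep : O → U := fun X => ⟨X.2.choose, X.2.choose_spec.1⟩
    have hrep : ∀ X : O, X.1 = (rep X).1 * u * (rep X).1⁻¹ := fun X => X.2.choose_spec.2
    have h2 : Nat.card U ≤ O.ncard * Q ^ (2 * k + 4) := by
      refine le_trans ?_ (Nat.mul_le_mul_left _ hcent)
      rw [← Nat.card_coe_set_eq, ← Nat.card_prod]
      refine Nat.card_le_card_of_injective (fun g =>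
        (⟨g.1 * u * g.1⁻¹, g.1, g.2, rfl⟩,
          ⟨(rep ⟨g.1 * u * g.1⁻¹, g.1, g.2, rfl⟩).1⁻¹ * g.1,
            mul_mem (inv_mem (rep _).2) g.2, ?_⟩)) ?_
      · set r := (rep ⟨g.1 * u * g.1⁻¹, g.1, g.2, rfl⟩).1
        have e : g.1 * u * g.1⁻¹ = r * u * r⁻¹ := hrep ⟨g.1 * u * g.1⁻¹, g.1, g.2, rfl⟩
        calc r⁻¹ * g.1 * u = r⁻¹ * (g.1 * u * g.1⁻¹) * g.1 := by group
          _ = r⁻¹ * (r * u * r⁻¹) * g.1 := by rw [e]
          _ = u * (r⁻¹ * g.1) := by group
      · intro g g' e
        simp only [Prod.mk.injEq, Subtype.mk.injEq] at e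
        have e1 : rep ⟨g.1 * u * g.1⁻¹, g.1, g.2, rfl⟩ = rep ⟨g'.1 * u * g'.1⁻¹, g'.1, g'.2, rfl⟩ :=
          congrArg rep (Subtype.ext e.1)
        rw [e1] at e
        exact Subtype.ext (mul_left_cancel e.2)
    have hQ : 0 < Q ^ (2 * k + 4) := by
      have : Nonempty {x : F // σ x = x} := ⟨⟨0, map_zero σ⟩⟩
      exact pow_pos Nat.card_pos _
    rw [hindex] at h2
    exact h1.trans (Nat.le_of_mul_le_mul_right h2 hQ)
  have heq := Set.eq_of_subset_of_ncard_le hsub hcard (Set.toFinite _)
  obtain ⟨g, hg, e⟩ : u * z ∈ O := heq ▸ ⟨⟨⟨z, hz⟩, (hφ' _).2 hφ⟩, trivial, rfl⟩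
  exact ⟨g, flagGroup_le_SUH hg, e.symm⟩

end Gens

end Cfsg.Agent.SUGen
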